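import Cfsg.Agent.Lib.ThreeSizes21.Basic
import Cfsg.Agent.Lib.ClassSizes.CopLocal
import Cfsg.Agent.Lib.TwoClassSizes.Tools

/-!
# Centralisers that are equal as soon as the elements commute

`Rig G p` : two commuting noncentral primary elements for primes `≠ p` have equal centralisers, and
each such centraliser has noncentral primary elements for two primes `≠ p`.

Main result `Rig.conjIn` : two such centralisers whose orders have the same `s`- and `t`-parts are
conjugate under any normal subgroup containing all `s`- and `t`-elements.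
-/

set_option autoImplicit false

namespace Cfsg.Agent.Lib.ThreeSizes21

open Cfsg.Agent.Lib.ClassSizes.Basic Cfsg.Agent.Lib.ClassSizes.CopTools
open Cfsg.Agent.Lib.ClassSizesFour21
open scoped Pointwise commutatorElement

variable {G : Type*} [Group G]

/-- A noncentral primary element for a prime other than `p`. -/
def Good (p : ℕ) (u : G) : Prop := ∃ s, Prim s u ∧ s ≠ p

theorem Good.nc {p : ℕ} {u : G} (h : Good p u) : u ∉ Subgroup.center G := h.choose_spec.1.nc

theorem Good.conj {p : ℕ} {u : G} (h : Good p u) (g : G) : Good p (g * u * g⁻¹) :=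
  let ⟨s, hs, hsp⟩ := h; ⟨s, hs.conj g, hsp⟩

/-- Rigidity of the centralisers of good elements. -/
structure Rig (G : Type*) [Group G] (p : ℕ) : Prop where
  trans : ∀ u v : G, Good p u → Good p v → Commute u v → cen u = cen v
  other : ∀ u : G, Good p u → ∀ r : ℕ, ∃ (t : ℕ) (c : G), Prim t c ∧ t ≠ p ∧ t ≠ r ∧ c ∈ cen u

variable {p : ℕ}

theorem Rig.cen_eq (X : Rig G p) {u c : G} (hu : Good p u) (hc : Good p c) (hcu : c ∈ cen u) :
    cen c = cen u :=
  X.trans c u hc hu (mem_cen.1 hcu).symm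

theorem Rig.mem_cen_of_commute (X : Rig G p) {u c g : G} (hu : Good p u) (hc : Good p c)
    (hcu : c ∈ cen u) (hg : Commute g c) : g ∈ cen u := by
  rw [← X.cen_eq hu hc hcu]
  exact mem_cen.2 hg.symm.eq

/-- `t`-elements of the centraliser of a good element commute. -/
theorem Rig.commute_pel (X : Rig G p) {u : G} (hu : Good p u) {t : ℕ} (ht : t.Prime) (htp : t ≠ p)
    {c d : G} (hc : c ∈ cen u) (hcp : IsPEl t c) (hd : d ∈ cen u) : Commute c d := by
  by_cases hcz : c ∈ Subgroup.center G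
  · exact (Subgroup.mem_center_iff.1 hcz d).symm
  · have h := X.cen_eq hu ⟨t, ⟨ht, hcp, hcz⟩, htp⟩ hc
    exact mem_cen.1 (h.ge hd)

theorem pel_mul {t : ℕ} {c d : G} (h : Commute c d) (hc : IsPEl t c) (hd : IsPEl t d) :
    IsPEl t (c * d) := by
  obtain ⟨i, hi⟩ := hc
  obtain ⟨j, hj⟩ := hd
  refine ⟨i + j, ?_⟩
  rw [h.mul_pow, pow_add, pow_mul, hi, one_pow, mul_comm (t ^ i), pow_mul, hj, one_pow, one_mul]

/-- The `t`-elements of the centraliser of a good element form a subgroup. -/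
def tPart (X : Rig G p) {u : G} (hu : Good p u) {t : ℕ} (ht : t.Prime) (htp : t ≠ p) :
    Subgroup G where
  carrier := {c | c ∈ cen u ∧ IsPEl t c}
  one_mem' := ⟨one_mem _, isPEl_one t⟩
  mul_mem' {c d} hc hd :=
    ⟨mul_mem hc.1 hd.1, pel_mul (X.commute_pel hu ht htp hc.1 hc.2 hd.1) hc.2 hd.2⟩
  inv_mem' {c} hc := ⟨inv_mem hc.1, hc.2.imp fun k hk => by rw [inv_pow, hk, inv_one]⟩

theorem tPart_isPGroup (X : Rig G p) {u : G} (hu : Good p u) {t : ℕ} (ht : t.Prime) (htp : t ≠ p) :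
    IsPGroup t (tPart X hu ht htp) := fun c => by
  obtain ⟨k, hk⟩ := c.2.2
  exact ⟨k, Subtype.ext hk⟩

theorem mem_normalizer_tPart (X : Rig G p) {u g : G} (hu : Good p u) {t : ℕ} (ht : t.Prime)
    (htp : t ≠ p) (hg : g ∈ Subgroup.normalizer (cen u : Set G)) :
    g ∈ Subgroup.normalizer (tPart X hu ht htp : Set G) := by
  rw [Subgroup.mem_normalizer_iff]
  intro c
  have h := Subgroup.mem_normalizer_iff.1 hg c
  constructor
  · exact fun hc => ⟨h.1 hc.1, conj_isPEl hc.2 g⟩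
  · refine fun hc => ⟨h.2 hc.1, ?_⟩
    have := conj_isPEl hc.2 g⁻¹
    rwa [show g⁻¹ * (g * c * g⁻¹) * g⁻¹⁻¹ = c by group] at this

variable [Finite G]

/-- A Sylow subgroup with noncentral elements has a noncentral element moved by it only by central
elements. -/
theorem exists_nearly {s : ℕ} [hs : Fact s.Prime] (S : Sylow s G) {x : G} (hx : Prim s x) :
    ∃ u, Prim s u ∧ u ∈ (S : Subgroup G) ∧ u ^ s ∈ Subgroup.center G ∧
      ∀ g ∈ (S : Subgroup G), g * u * g⁻¹ * u⁻¹ ∈ Subgroup.center G := by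
  obtain ⟨g, hg⟩ := exists_conj_mem hx.pel S
  have hne : ¬ (S : Subgroup G) ≤ Subgroup.center G := fun h => (hx.conj g).nc (h hg)
  obtain ⟨u, hu, huz, hup, hcomm⟩ := TwoClassSizes.exists_nearly_central S.2 le_rfl
    (fun a ha y hy => mul_mem (mul_mem ha hy) (inv_mem ha)) hne
  refine ⟨u, ⟨hs.out, isPEl_of_mem S.2 hu, huz⟩, hu, hup, fun a ha => ?_⟩
  have := hcomm a ha
  rwa [commutatorElement_def] at this

/-- A `p`-subgroup normalising `C` meets it in a Sylow subgroup if it is a Sylow subgroup. -/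
theorem card_inf_of_le_normalizer {s : ℕ} [hs : Fact s.Prime] (S : Sylow s G) {C : Subgroup G}
    (hS : (S : Subgroup G) ≤ Subgroup.normalizer (C : Set G)) :
    Nat.card ((S : Subgroup G) ⊓ C : Subgroup G) = s ^ (Nat.card C).factorization s := by
  refine le_antisymm (TwoClassSizes.card_le_ordProj (S.2.to_le inf_le_left) inf_le_right) ?_
  have := Subgroup.normal_subgroupOf_of_le_normalizer hS
  have := Subgroup.normal_subgroupOf_sup_of_le_normalizer hS
  have h1 : C.relIndex (S : Subgroup G) = C.relIndex ((S : Subgroup G) ⊔ C) :=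
    Nat.card_congr (QuotientGroup.quotientInfEquivProdNormalizerQuotient (S : Subgroup G) C hS).toEquiv
  have h2 := Subgroup.card_mul_index ((((S : Subgroup G) ⊓ C)).subgroupOf (S : Subgroup G))
  rw [Nat.card_congr (Subgroup.subgroupOfEquivOfLe
    (inf_le_left : (S : Subgroup G) ⊓ C ≤ S)).toEquiv, S.card_eq_multiplicity] at h2
  change _ * ((S : Subgroup G) ⊓ C).relIndex (S : Subgroup G) = _ at h2
  rw [Subgroup.inf_relIndex_left, h1] at h2
  have h3 := Subgroup.card_mul_index (C.subgroupOf ((S : Subgroup G) ⊔ C))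
  rw [Nat.card_congr (Subgroup.subgroupOfEquivOfLe
    (le_sup_right : C ≤ (S : Subgroup G) ⊔ C)).toEquiv] at h3
  change _ * C.relIndex ((S : Subgroup G) ⊔ C) = _ at h3
  set r := C.relIndex ((S : Subgroup G) ⊔ C)
  obtain ⟨j, hj⟩ := (S.2.to_le (inf_le_left : (S : Subgroup G) ⊓ C ≤ S)).exists_card_eq
  rw [hj] at h2 ⊢
  have hr : r ≠ 0 := fun h => by
    rw [h, mul_zero] at h2
    exact pow_ne_zero _ hs.out.ne_zero h2.symm
  have h4 := congrArg (fun n => n.factorization s) h2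
  rw [Nat.factorization_mul (pow_ne_zero _ hs.out.ne_zero) hr, Finsupp.add_apply,
    hs.out.factorization_pow, hs.out.factorization_pow, Finsupp.single_eq_same,
    Finsupp.single_eq_same] at h4
  have h5 := (Nat.factorization_le_iff_dvd Nat.card_pos.ne' Nat.card_pos.ne').2
    (Subgroup.card_subgroup_dvd_card ((S : Subgroup G) ⊔ C)) s
  rw [← h3, Nat.factorization_mul Nat.card_pos.ne' hr, Finsupp.add_apply] at h5
  exact Nat.pow_le_pow_right hs.out.pos (by omega)

/-- The part of a Sylow subgroup moving a good element has order at most `s`. -/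
theorem Rig.relIndex_le (X : Rig G p) {s : ℕ} [hs : Fact s.Prime] (S : Sylow s G) {u : G}
    (hu : Good p u) (hup : u ^ s ∈ Subgroup.center G)
    (hcomm : ∀ g ∈ (S : Subgroup G), g * u * g⁻¹ * u⁻¹ ∈ Subgroup.center G) :
    (cen u).relIndex (S : Subgroup G) ≤ s := by
  by_cases hle : (S : Subgroup G) ≤ cen u
  · rw [Subgroup.relIndex_eq_one.2 hle]
    exact hs.out.one_le
  obtain ⟨b, hb, hbu⟩ := SetLike.not_le_iff_exists.1 hle
  have hbr : ∀ g : G, g ∈ (S : Subgroup G) → ⁅g, u⁆ ∈ Subgroup.center G := fun g hg => by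
    rw [commutatorElement_def]; exact hcomm g hg
  have hpow : ∀ g ∈ (S : Subgroup G), g ^ s ∈ cen u := fun g hg =>
    TwoClassSizes.pow_mem_cen (hbr g hg) hup
  refine TwoClassSizes.relIndex_le_of_forall hs.out.pos (hpow b hb) fun a ha => ?_
  by_contra hcon
  push Not at hcon
  obtain ⟨t, c, hc, htp, hts, hcu⟩ := X.other u hu s
  have hA : ∀ d ∈ cen u, d ∈ Subgroup.centralizer (tPart X hu hc.prime htp : Set G) := fun d hd =>
    Subgroup.mem_centralizer_iff.2 fun y hy => (X.commute_pel hu hc.prime htp hy.1 hy.2 hd).eq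
  have hfix : ∀ g : G, g ∉ cen u → ∀ y ∈ tPart X hu hc.prime htp, Commute g y →
      y ∈ Subgroup.center G := by
    intro g hg y hy hgy
    by_contra hyz
    exact hg (X.mem_cen_of_commute hu ⟨t, ⟨hc.prime, hy.2, hyz⟩, htp⟩ hy.1 hgy)
  refine hc.nc (ClassSizes.CopLocal.fpf_elementary (A := tPart X hu hc.prime htp) (p := s) (a := a) (b := b)
    (fun x hx y hy => (X.commute_pel hu hc.prime htp hx.1 hx.2 hy.1).eq)
    (mem_normalizer_tPart X hu hc.prime htp (mem_normalizer_of_comm (hcomm a ha)))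
    (mem_normalizer_tPart X hu hc.prime htp (mem_normalizer_of_comm (hcomm b hb)))
    (hA _ (hpow a ha)) (hA _ (hpow b hb))
    (hA _ (TwoClassSizes.commutator_mem_cen (hbr a ha) (hbr b hb)))
    (hfix b hbu) (fun i => hfix _ (hcon i)) (⟨hcu, hc.pel⟩ : c ∈ tPart X hu hc.prime htp) ?_)
  exact hc.pel.coprime hc.prime ((Nat.coprime_primes hc.prime hs.out).2 hts)

/-- A centraliser meeting `S` in a Sylow subgroup and different from the canonical one is small at
`s` and has an outer normalising `s`-element. -/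
theorem Rig.small (X : Rig G p) {s : ℕ} [hs : Fact s.Prime] (hsp : s ≠ p) (S : Sylow s G) {u v : G}
    (hu : Prim s u) (huS : u ∈ (S : Subgroup G)) (hup : u ^ s ∈ Subgroup.center G)
    (hcomm : ∀ g ∈ (S : Subgroup G), g * u * g⁻¹ * u⁻¹ ∈ Subgroup.center G)
    (hv : Good p v) (hvs : ∃ c ∈ cen v, Prim s c)
    (hfull : Nat.card ((S : Subgroup G) ⊓ cen v : Subgroup G) =
      s ^ (Nat.card (cen v)).factorization s)
    (hne : cen v ≠ cen u) :
    (Nat.card (cen v)).factorization s = (Nat.card (Subgroup.center G)).factorization s + 1 ∧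
      (∃ g, IsPEl s g ∧ g ∈ Subgroup.normalizer (cen v : Set G) ∧ g ∉ cen v) ∧
      ¬ (S : Subgroup G) ≤ cen u := by
  have hug : Good p u := ⟨s, hu, hsp⟩
  set T := ((S : Subgroup G) ⊓ cen v : Subgroup G) with hT
  have hTp : IsPGroup s T := S.2.to_le inf_le_left
  have hprim : ∀ w ∈ T, w ∉ Subgroup.center G → Good p w ∧ cen w = cen v := by
    intro w hw hwz
    have hwg : Good p w := ⟨s, ⟨hs.out, isPEl_of_mem S.2 hw.1, hwz⟩, hsp⟩
    exact ⟨hwg, X.cen_eq hv hwg hw.2⟩
  obtain ⟨c, hcv, hc⟩ := hvs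
  have hgt : (Nat.card (Subgroup.center G)).factorization s < (Nat.card (cen v)).factorization s := by
    refine lt_of_not_ge fun h => hc.nc (central_of_factorization_le (center_le_cen v) h hcv hc.pel)
  obtain ⟨a₀, ha₀, ha₀z⟩ : ∃ a₀ ∈ T, a₀ ∉ Subgroup.center G := by
    by_contra hall
    push Not at hall
    have h1 := (Nat.Prime.pow_dvd_iff_le_factorization hs.out Nat.card_pos.ne').1
      (hfull ▸ Subgroup.card_dvd_of_le (hall : T ≤ Subgroup.center G))
    omega
  obtain ⟨-, hca₀⟩ := hprim a₀ ha₀ ha₀z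
  have hau : a₀ ∉ cen u := fun h =>
    hne (hca₀.symm.trans (X.cen_eq hug (hprim a₀ ha₀ ha₀z).1 h))
  refine ⟨?_, ?_, fun h => hau (h ha₀.1)⟩
  · have hint : T ⊓ cen u ≤ Subgroup.center G := fun w hw => by
      by_contra hwz
      exact hne ((hprim w hw.1 hwz).2.symm.trans (X.cen_eq hug (hprim w hw.1 hwz).1 hw.2))
    have h1 : (cen u).relIndex T ≤ s :=
      (Subgroup.relIndex_le_of_le_right inf_le_left
        Subgroup.index_ne_zero_of_finite).trans (X.relIndex_le S hug hup hcomm)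
    have h2 := Subgroup.card_mul_index ((T ⊓ cen u).subgroupOf T)
    rw [Nat.card_congr (Subgroup.subgroupOfEquivOfLe (inf_le_left : T ⊓ cen u ≤ T)).toEquiv,
      hfull] at h2
    change _ * (T ⊓ cen u).relIndex T = _ at h2
    rw [Subgroup.inf_relIndex_left] at h2
    obtain ⟨j, hj⟩ := (hTp.to_le (inf_le_left : T ⊓ cen u ≤ T)).exists_card_eq
    have h3 := (Nat.Prime.pow_dvd_iff_le_factorization hs.out Nat.card_pos.ne').1
      (hj ▸ Subgroup.card_dvd_of_le hint)
    rw [hj] at h2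
    have h4 : s ^ (Nat.card (cen v)).factorization s ≤ s ^ (j + 1) := by
      rw [← h2, pow_succ]
      exact Nat.mul_le_mul_left _ h1
    have h5 := (Nat.pow_le_pow_iff_right hs.out.one_lt).1 h4
    omega
  · have hne' : T.subgroupOf (S : Subgroup G) ≠ ⊤ := fun h => by
      have huv : u ∈ cen v := (Subgroup.subgroupOf_eq_top.1 h huS).2
      exact hne (X.cen_eq hv hug huv).symm
    have : Group.IsNilpotent (S : Subgroup G) := S.2.isNilpotent
    obtain ⟨g, hg, hgT⟩ := SetLike.exists_of_lt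
      (Group.normalizerCondition_of_isNilpotent (T.subgroupOf (S : Subgroup G))
        (lt_top_iff_ne_top.2 hne'))
    refine ⟨g, isPEl_of_mem S.2 g.2, mem_normalizer_cen.2 ?_, fun h => hgT ?_⟩
    · have h1 := (Subgroup.mem_normalizer_iff.1 hg ⟨a₀, ha₀.1⟩).1 (Subgroup.mem_subgroupOf.2 ha₀)
      have h2 : (g : G) * a₀ * (g : G)⁻¹ ∈ T := Subgroup.mem_subgroupOf.1 h1
      rw [← cen_conj_congr hca₀ (g : G), (hprim _ h2 (conj_noncentral ha₀z _)).2]
    · exact Subgroup.mem_subgroupOf.2 ⟨g.2, h⟩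

/-- An outer normalising `s`-element bounds the `t`-part. -/
theorem Rig.dvd_pred (X : Rig G p) {s t : ℕ} [hs : Fact s.Prime] [ht : Fact t.Prime] (hst : s ≠ t)
    (htp : t ≠ p) {v g : G} (hv : Good p v) (hg : IsPEl s g)
    (hgn : g ∈ Subgroup.normalizer (cen v : Set G)) (hgv : g ∉ cen v)
    (hcard : (Nat.card (cen v)).factorization t =
      (Nat.card (Subgroup.center G)).factorization t + 1) :
    s ∣ t - 1 := by
  set A := tPart X hv ht.out htp with hA
  have hAp : IsPGroup t A := tPart_isPGroup X hv ht.out htp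
  have hcA : Nat.card A = t ^ ((Nat.card (Subgroup.center G)).factorization t + 1) := by
    rw [← hcard]
    refine le_antisymm (TwoClassSizes.card_le_ordProj hAp fun c hc => hc.1) ?_
    obtain ⟨Q, hQ, hQp, hQc⟩ := exists_psub (p := t) (cen v)
    exact hQc.symm.le.trans (Subgroup.card_le_of_le fun c hc => ⟨hQ hc, isPEl_of_mem hQp hc⟩)
  have hle : A ⊓ cen g ≤ Subgroup.center G := fun c hc => by
    by_contra hcz
    exact hgv (X.mem_cen_of_commute hv ⟨t, ⟨ht.out, hc.1.2, hcz⟩, htp⟩ hc.1.1 (mem_cen.1 hc.2))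
  have hcB : Nat.card (A ⊓ cen g : Subgroup G) = t ^ (Nat.card (Subgroup.center G)).factorization t := by
    refine le_antisymm (TwoClassSizes.card_le_ordProj (hAp.to_le inf_le_left) hle) ?_
    obtain ⟨Q, hQ, hQp, hQc⟩ := exists_psub (p := t) (Subgroup.center G)
    exact hQc.symm.le.trans (Subgroup.card_le_of_le fun c hc =>
      ⟨⟨center_le_cen v (hQ hc), isPEl_of_mem hQp hc⟩, center_le_cen g (hQ hc)⟩)
  have h1 := ClassSizes.CopLocal.card_modEq_inf_cen hg (mem_normalizer_tPart X hv ht.out htp hgn)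
  rw [hcA, hcB, pow_succ] at h1
  have h2 := (Nat.modEq_iff_dvd' (Nat.le_mul_of_pos_right _ ht.out.pos)).1 h1.symm
  rw [← Nat.mul_sub_one] at h2
  exact (Nat.Coprime.pow_right _ ((Nat.coprime_primes hs.out ht.out).2 hst)).dvd_of_dvd_mul_left h2

/-- Conjugacy of centralisers by elements of `K`. -/
def ConjIn (K : Subgroup G) (v w : G) : Prop := ∃ g ∈ K, cen (g * v * g⁻¹) = cen w

omit [Finite G] in
theorem ConjIn.symm {K : Subgroup G} {v w : G} (h : ConjIn K v w) : ConjIn K w v := by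
  obtain ⟨g, hg, h⟩ := h
  refine ⟨g⁻¹, inv_mem hg, ?_⟩
  rw [← cen_conj_congr h g⁻¹, show g⁻¹ * (g * v * g⁻¹) * g⁻¹⁻¹ = v by group]

omit [Finite G] in
theorem ConjIn.trans {K : Subgroup G} {x v w : G} (h : ConjIn K x v) (h' : ConjIn K v w) :
    ConjIn K x w := by
  obtain ⟨g, hg, h⟩ := h
  obtain ⟨g', hg', h'⟩ := h'
  refine ⟨g' * g, mul_mem hg' hg, ?_⟩
  rw [← h', ← cen_conj_congr h g']
  congr 1
  group

/-- Moving an element so that a given Sylow subgroup meets its centraliser in a Sylow subgroup. -/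
theorem exists_conj_full {s : ℕ} [hs : Fact s.Prime] (S : Sylow s G) {K : Subgroup G}
    (hK : ∀ x : G, IsPEl s x → x ∈ K) (v : G) :
    ∃ g ∈ K, Nat.card ((S : Subgroup G) ⊓ cen (g * v * g⁻¹) : Subgroup G) =
      s ^ (Nat.card (cen v)).factorization s := by
  obtain ⟨R, -, hR⟩ := TwoClassSizes.exists_sylow_inf (p := s) (cen v) (P := ⊥) IsPGroup.of_bot bot_le
  have hSK : (S : Subgroup G) ≤ K := fun x hx => hK x (isPEl_of_mem S.2 hx)
  have hRK : (R : Subgroup G) ≤ K := fun x hx => hK x (isPEl_of_mem R.2 hx)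
  obtain ⟨k, hk⟩ := MulAction.exists_smul_eq K (R.subtype hRK) (S.subtype hSK)
  rw [Sylow.smul_subtype] at hk
  replace hk := Sylow.subtype_injective hk
  rw [Subgroup.smul_def] at hk
  refine ⟨k, k.2, le_antisymm ?_ ?_⟩
  · rw [← card_cen_conj (k : G) v]
    exact TwoClassSizes.card_le_ordProj (S.2.to_le inf_le_left) inf_le_right
  · rw [← hR, ← Subgroup.card_map_of_injective (f := (MulAut.conj (k : G)).toMonoidHom)
      (MulAut.conj (k : G)).injective]
    refine Subgroup.card_le_of_le ?_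
    rintro _ ⟨x, hx, rfl⟩
    refine ⟨?_, cen_conj_mem.2 ?_⟩
    · rw [← hk, Sylow.coe_subgroup_smul]
      exact Subgroup.smul_mem_pointwise_smul x (MulAut.conj (k : G)) _ hx.1
    · simpa [mul_assoc] using hx.2

/-- Either two centralisers are conjugate under `K`, or both are small at `s` with outer
normalising `s`-elements. -/
theorem Rig.conj_or_small (X : Rig G p) {s : ℕ} [hs : Fact s.Prime] (hsp : s ≠ p) {K : Subgroup G}
    (hK : ∀ x : G, IsPEl s x → x ∈ K) {v w : G} (hv : Good p v) (hw : Good p w)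
    (hvs : ∃ c ∈ cen v, Prim s c) (hws : ∃ c ∈ cen w, Prim s c)
    (he : (Nat.card (cen v)).factorization s = (Nat.card (cen w)).factorization s) :
    ConjIn K v w ∨
      ((Nat.card (cen v)).factorization s = (Nat.card (Subgroup.center G)).factorization s + 1 ∧
        (∃ g, IsPEl s g ∧ g ∈ Subgroup.normalizer (cen v : Set G) ∧ g ∉ cen v) ∧
        ∃ g, IsPEl s g ∧ g ∈ Subgroup.normalizer (cen w : Set G) ∧ g ∉ cen w) := by
  obtain ⟨S⟩ : Nonempty (Sylow s G) := inferInstance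
  obtain ⟨c₀, hc₀v, hc₀⟩ := hvs
  obtain ⟨u, hu, huS, hup, hcomm⟩ := exists_nearly S hc₀
  have hug : Good p u := ⟨s, hu, hsp⟩
  -- the alternative for a single centraliser
  have key : ∀ x : G, Good p x → (∃ c ∈ cen x, Prim s c) → ¬ ConjIn K x u →
      (Nat.card (cen x)).factorization s = (Nat.card (Subgroup.center G)).factorization s + 1 ∧
        (∃ g, IsPEl s g ∧ g ∈ Subgroup.normalizer (cen x : Set G) ∧ g ∉ cen x) ∧
        ¬ (S : Subgroup G) ≤ cen u := by
    intro x hx hxs hxu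
    obtain ⟨k, hk, hfull⟩ := exists_conj_full S hK x
    obtain ⟨c, hcx, hc⟩ := hxs
    have h := X.small hsp S hu huS hup hcomm (hx.conj k)
      ⟨k * c * k⁻¹, cen_conj_mem.2 (by simpa [mul_assoc] using hcx), hc.conj k⟩
      (by rw [card_cen_conj]; exact hfull) fun h => hxu ⟨k, hk, h⟩
    rw [card_cen_conj] at h
    obtain ⟨h1, ⟨g, hg, hgn, hgv⟩, h3⟩ := h
    refine ⟨h1, ⟨k⁻¹ * g * k, ?_, ?_, fun h => hgv (cen_conj_mem.2 h)⟩, h3⟩
    · have := conj_isPEl hg k⁻¹
      rwa [inv_inv] at this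
    · rw [mem_normalizer_cen] at hgn ⊢
      have h' := cen_conj_congr hgn k⁻¹
      rw [show k⁻¹ * (g * (k * x * k⁻¹) * g⁻¹) * k⁻¹⁻¹ = k⁻¹ * g * k * x * (k⁻¹ * g * k)⁻¹ by group,
        show k⁻¹ * (k * x * k⁻¹) * k⁻¹⁻¹ = x by group] at h'
      exact h'
  have outer : ¬ (S : Subgroup G) ≤ cen u → ∀ x : G, ConjIn K x u →
      ∃ g, IsPEl s g ∧ g ∈ Subgroup.normalizer (cen x : Set G) ∧ g ∉ cen x := by
    intro hnle x hxu
    obtain ⟨k, -, hk⟩ := hxu.symm
    obtain ⟨b, hb, hbu⟩ := SetLike.not_le_iff_exists.1 hnle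
    refine ⟨k * b * k⁻¹, conj_isPEl (isPEl_of_mem S.2 hb) k, mem_normalizer_cen.2 ?_, ?_⟩
    · have h' := mem_normalizer_cen.1 (mem_normalizer_of_comm (hcomm b hb))
      rw [← cen_conj_congr hk (k * b * k⁻¹), ← hk, ← cen_conj_congr h' k]
      congr 1
      group
    · rw [← hk, cen_conj_mem]
      simpa [mul_assoc] using hbu
  by_cases hvu : ConjIn K v u <;> by_cases hwu : ConjIn K w u
  · exact Or.inl (hvu.trans hwu.symm)
  · obtain ⟨h1, h2, h3⟩ := key w hw hws hwu
    exact Or.inr ⟨he.trans h1, outer h3 v hvu, h2⟩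
  · obtain ⟨h1, h2, h3⟩ := key v hv ⟨c₀, hc₀v, hc₀⟩ hvu
    exact Or.inr ⟨h1, h2, outer h3 w hwu⟩
  · obtain ⟨h1, h2, -⟩ := key v hv ⟨c₀, hc₀v, hc₀⟩ hvu
    exact Or.inr ⟨h1, h2, (key w hw hws hwu).2.1⟩

/-- Centralisers with equal `s`- and `t`-parts are conjugate. -/
theorem Rig.conjIn (X : Rig G p) {s t : ℕ} [hs : Fact s.Prime] [ht : Fact t.Prime] (hsp : s ≠ p)
    (htp : t ≠ p) (hst : s ≠ t) {K : Subgroup G}
    (hKs : ∀ x : G, IsPEl s x → x ∈ K) (hKt : ∀ x : G, IsPEl t x → x ∈ K)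
    {v w : G} (hv : Good p v) (hw : Good p w)
    (hvs : ∃ c ∈ cen v, Prim s c) (hws : ∃ c ∈ cen w, Prim s c)
    (hvt : ∃ c ∈ cen v, Prim t c) (hwt : ∃ c ∈ cen w, Prim t c)
    (hes : (Nat.card (cen v)).factorization s = (Nat.card (cen w)).factorization s)
    (het : (Nat.card (cen v)).factorization t = (Nat.card (cen w)).factorization t) :
    ConjIn K v w := by
  by_contra hne
  obtain ⟨h1, ⟨g, hg, hgn, hgv⟩, -⟩ := (X.conj_or_small hsp hKs hv hw hvs hws hes).resolve_left hne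
  obtain ⟨h1', ⟨g', hg', hgn', hgv'⟩, -⟩ :=
    (X.conj_or_small htp hKt hv hw hvt hwt het).resolve_left hne
  have d1 := X.dvd_pred hst htp hv hg hgn hgv h1'
  have d2 := X.dvd_pred (Ne.symm hst) hsp hv hg' hgn' hgv' h1
  have := hs.out.two_le
  have := ht.out.two_le
  have := Nat.le_of_dvd (by omega) d1
  have := Nat.le_of_dvd (by omega) d2
  omega

/-- A Sylow subgroup normalises some centraliser of a good element for that prime. -/
theorem Rig.exists_normalized {s : ℕ} [hs : Fact s.Prime] (hsp : s ≠ p) (S : Sylow s G) {x : G}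
    (hx : Prim s x) : ∃ u, Good p u ∧ Prim s u ∧ u ∈ (S : Subgroup G) ∧
      (S : Subgroup G) ≤ Subgroup.normalizer (cen u : Set G) := by
  obtain ⟨u, hu, huS, -, hcomm⟩ := exists_nearly S hx
  exact ⟨u, ⟨s, hu, hsp⟩, hu, huS, fun g hg => mem_normalizer_of_comm (hcomm g hg)⟩

end Cfsg.Agent.Lib.ThreeSizes21
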