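import Cfsg.Agent.Lib.ClassSizesFour21.Two
import Cfsg.Agent.Lib.ClassSizesFour21.PrimePower
import Cfsg.Agent.Lib.TwoPRegular.Basic
import Cfsg.Agent.Lib.Induced.Burnside

/-!
# Three class sizes: preliminaries

* `Three` : the class sizes are `1 < a < b`;
* `Prim s x` : `x` is a noncentral `s`-element, `s` prime;
* `exists_third` : a group that is not solvable has noncentral primary elements for three primes.
-/

set_option autoImplicit false

namespace Cfsg.Agent.Lib.ThreeSizes21

open Cfsg.Agent.Lib.ClassSizes.Basic Cfsg.Agent.Lib.ClassSizes.CopTools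
open Cfsg.Agent.Lib.ClassSizesFour21

variable {G : Type*} [Group G]

/-- The class sizes are `1`, `a`, `b` with `1 < a < b`. -/
structure Three (G : Type*) [Group G] (a b : ℕ) : Prop where
  one_lt : 1 < a
  lt : a < b
  mem : ∀ x : G, idx x = 1 ∨ idx x = a ∨ idx x = b
  exists_a : ∃ x : G, idx x = a
  exists_b : ∃ x : G, idx x = b

/-- A noncentral element of prime power order. -/
structure Prim (s : ℕ) (x : G) : Prop where
  prime : s.Prime
  pel : IsPEl s x
  nc : x ∉ Subgroup.center G

variable {a b : ℕ}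

theorem Three.cases (S : Three G a b) {x : G} (h : x ∉ Subgroup.center G) :
    idx x = a ∨ idx x = b :=
  (S.mem x).resolve_left fun h1 => h (idx_one_iff.1 h1)

theorem Three.nc_of_idx (S : Three G a b) {x : G} (h : idx x = a ∨ idx x = b) :
    x ∉ Subgroup.center G := by
  intro hz
  have h1 := idx_one_iff.2 hz
  have := S.one_lt
  have := S.lt
  omega

theorem Prim.conj {s : ℕ} {x : G} (h : Prim s x) (g : G) : Prim s (g * x * g⁻¹) :=
  ⟨h.prime, conj_isPEl h.pel g, conj_noncentral h.nc g⟩

theorem cen_conj_mem {g x y : G} : y ∈ cen (g * x * g⁻¹) ↔ g⁻¹ * y * g ∈ cen x := mem_cen_conj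

theorem cen_conj_congr {x y : G} (h : cen x = cen y) (g : G) :
    cen (g * x * g⁻¹) = cen (g * y * g⁻¹) := by
  ext c
  rw [cen_conj_mem, cen_conj_mem, h]

theorem cen_conj_le {x y : G} (h : cen x ≤ cen y) (g : G) :
    cen (g * x * g⁻¹) ≤ cen (g * y * g⁻¹) := by
  intro c hc
  rw [cen_conj_mem] at hc ⊢
  exact h hc

theorem card_cen_conj (g x : G) : Nat.card (cen (g * x * g⁻¹)) = Nat.card (cen x) := by
  have h := TwoPRegular.cen_conj g x
  change Nat.card (TwoClassSizes.cen (g * x * g⁻¹)) = _
  rw [h]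
  exact Subgroup.card_map_of_injective (MulAut.conj g).injective

theorem mem_normalizer_cen {g u : G} :
    g ∈ Subgroup.normalizer (cen u : Set G) ↔ cen (g * u * g⁻¹) = cen u := by
  rw [Subgroup.mem_normalizer_iff]
  constructor
  · intro h
    ext c
    rw [cen_conj_mem]
    have := h (g⁻¹ * c * g)
    rwa [show g * (g⁻¹ * c * g) * g⁻¹ = c by group] at this
  · intro h c
    conv_rhs => rw [← h, cen_conj_mem]
    rw [show g⁻¹ * (g * c * g⁻¹) * g = c by group]

/-- An element moving `u` by a central element normalises `C(u)`. -/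
theorem mem_normalizer_of_comm {g u : G} (h : g * u * g⁻¹ * u⁻¹ ∈ Subgroup.center G) :
    g ∈ Subgroup.normalizer (cen u : Set G) := by
  rw [mem_normalizer_cen]
  have h1 := Subgroup.mem_center_iff.1 h u
  have h2 : g * u * g⁻¹ = u * (g * u * g⁻¹ * u⁻¹) := by rw [h1]; group
  rw [h2]
  exact cen_mul_center h

theorem center_normal_map {K : Subgroup G} {x : G} (h : x ∈ Subgroup.center G) (g : G)
    (hxK : x ∈ K) : g * x * g⁻¹ ∈ K := by
  rwa [Subgroup.mem_center_iff.1 h g, mul_inv_cancel_right]

variable [Finite G]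

theorem exists_prim {x : G} (hx : x ∉ Subgroup.center G) :
    ∃ (s : ℕ) (u : G), Prim s u ∧ u ∈ Subgroup.zpowers x ∧ cen x ≤ cen u := by
  obtain ⟨s, u, hs, hu, huz, hup⟩ := exists_primary_notMem (C := Subgroup.center G) hx
  exact ⟨s, u, ⟨hs, hup, huz⟩, hu, cen_le_of_mem_zpowers hu⟩

theorem Prim.prime_unique {s t : ℕ} {x : G} (h : Prim s x) (h' : Prim t x) : s = t := by
  by_contra hne
  obtain ⟨k, hk⟩ := h.pel
  obtain ⟨j, hj⟩ := h'.pel
  refine h.nc ?_
  rw [orderOf_eq_one_iff.1 (Nat.eq_one_of_dvd_coprimes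
    (((Nat.coprime_primes h.prime h'.prime).2 hne).pow k j)
    (orderOf_dvd_of_pow_eq_one hk) (orderOf_dvd_of_pow_eq_one hj))]
  exact one_mem _

/-- A group with noncentral primary elements for at most two primes is solvable. -/
theorem exists_third (hns : ¬ Group.IsSolvable G) (p q : ℕ) :
    ∃ (s : ℕ) (x : G), Prim s x ∧ s ≠ p ∧ s ≠ q := by
  classical
  by_contra hcon
  push Not at hcon
  refine hns ?_
  set Z := Subgroup.center G
  set N := Nat.card (G ⧸ Z) with hN
  have hidx : ∀ r : ℕ, r.Prime → r ∣ N → r = p ∨ r = q := by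
    intro r hr hrd
    by_contra hc
    push Not at hc
    have : Fact r.Prime := ⟨hr⟩
    obtain ⟨R⟩ : Nonempty (Sylow r G) := inferInstance
    refine R.not_dvd_index (hrd.trans (Subgroup.index_dvd_of_le fun x hx => ?_))
    by_contra hxz
    exact hc.2 (hcon r x ⟨hr, isPEl_of_mem R.2 hx, hxz⟩ hc.1)
  obtain ⟨P, hP, hPp⟩ : ∃ P : ℕ, P.Prime ∧ (p.Prime → P = p) :=
    if h : p.Prime then ⟨p, h, fun _ => rfl⟩ else ⟨2, Nat.prime_two, fun h' => absurd h' h⟩
  obtain ⟨Q, hQ, hQq⟩ : ∃ Q : ℕ, Q.Prime ∧ (q.Prime → Q = q) :=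
    if h : q.Prime then ⟨q, h, fun _ => rfl⟩ else ⟨2, Nat.prime_two, fun h' => absurd h' h⟩
  have hcard : N = P ^ N.factorization P * Q ^ (if Q = P then 0 else N.factorization Q) := by
    refine Nat.eq_of_factorization_eq Nat.card_pos.ne' (mul_ne_zero (pow_ne_zero _ hP.ne_zero)
      (pow_ne_zero _ hQ.ne_zero)) fun r => ?_
    rw [Nat.factorization_mul (pow_ne_zero _ hP.ne_zero) (pow_ne_zero _ hQ.ne_zero),
      hP.factorization_pow, hQ.factorization_pow, Finsupp.add_apply, Finsupp.single_apply,
      Finsupp.single_apply]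
    by_cases h1 : P = r
    · subst h1
      by_cases h2 : Q = P <;> simp [h2]
    by_cases h2 : Q = r
    · subst h2; simp [h1, Ne.symm h1]
    rw [if_neg h1, if_neg h2, add_zero, Nat.factorization_eq_zero_iff]
    by_cases hr : r.Prime
    · refine Or.inr (Or.inl fun hd => ?_)
      rcases hidx r hr hd with e | e
      · exact h1 ((hPp (e ▸ hr)).trans e.symm)
      · exact h2 ((hQq (e ▸ hr)).trans e.symm)
    · exact Or.inl hr
  have hq' : Group.IsSolvable (G ⧸ Z) :=
    Lib.Induced.Burnside.isSolvable_of_card_eq P Q _ _ hP hQ hcard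
  haveI : Group.IsSolvable Z :=
    Group.isSolvable_of_comm fun a b => Subtype.ext (Subgroup.mem_center_iff.1 b.2 a)
  exact Group.isSolvable_of_ker_le_range (Subgroup.center G).subtype (QuotientGroup.mk' Z)
    (by rw [QuotientGroup.ker_mk', Subgroup.range_subtype])

/-- An element of class size `b` has its centralizer inside those of commuting elements of coprime
order. -/
theorem Three.le_of_idx_b (S : Three G a b) {x v : G} (hx : idx x = b) (hv : v ∈ cen x)
    (hcop : (orderOf x).Coprime (orderOf v)) : cen x ≤ cen v := by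
  have e := cen_mul (show Commute x v from mem_cen.1 hv) hcop
  have hle : cen (x * v) ≤ cen x := e.le.trans inf_le_left
  have hd : b ∣ idx (x * v) := hx ▸ Subgroup.index_dvd_of_le hle
  have h1 : idx (x * v) = b := by
    rcases S.mem (x * v) with h | h | h
    · rw [h] at hd
      have := Nat.le_of_dvd one_pos hd
      have := S.one_lt
      have := S.lt
      omega
    · rw [h] at hd
      have := Nat.le_of_dvd (by have := S.one_lt; omega) hd
      have := S.lt
      omega
    · exact h
  exact (cen_eq_of_le_idx hle (hx.trans h1.symm)) ▸ e.le.trans inf_le_right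

end Cfsg.Agent.Lib.ThreeSizes21
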