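import Cfsg.Agent.Lib.ThreeSizes21.OneClass

/-!
# Three class sizes without nested centralisers: basic facts
-/

set_option autoImplicit false

namespace Cfsg.Agent.Lib.ThreeSizes21

open Cfsg.Agent.Lib.ClassSizes.Basic Cfsg.Agent.Lib.ClassSizes.CopTools
open Cfsg.Agent.Lib.ClassSizesFour21

variable {G : Type*} [Group G] {a b : ℕ}

/-- No centraliser of a noncentral element lies properly inside another. -/
def NoNest (G : Type*) [Group G] : Prop :=
  ∀ x y : G, x ∉ Subgroup.center G → y ∉ Subgroup.center G → cen x ≤ cen y → cen x = cen y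

/-- A noncentral `s`-element whose centraliser has no other noncentral primary element. -/
def Typed (s : ℕ) (x : G) : Prop :=
  Prim s x ∧ ∀ (t : ℕ) (v : G), Prim t v → v ∈ cen x → t = s

variable [Finite G]

theorem NoNest.coprime_eq (F : NoNest G) {s t : ℕ} {u v : G} (hu : Prim s u) (hv : Prim t v)
    (hst : s ≠ t) (h : Commute u v) : cen u = cen v := by
  have e := cen_mul h (hu.pel.coprime_orderOf hu.prime hv.prime hst hv.pel)
  have hz : u * v ∉ Subgroup.center G := fun hz => by
    have h1 := cen_eq_top_iff.2 hz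
    rw [e] at h1
    exact hu.nc (cen_eq_top_iff.1 (top_unique (h1.symm.le.trans inf_le_left)))
  have h1 := F (u * v) u hz hu.nc (e.le.trans inf_le_left)
  have h2 := F (u * v) v hz hv.nc (e.le.trans inf_le_right)
  exact h1.symm.trans h2

theorem NoNest.eq_of_untyped (F : NoNest G) {s : ℕ} {u : G} (hu : Prim s u) (hn : ¬ Typed s u)
    {t : ℕ} {v : G} (hv : Prim t v) (hvu : v ∈ cen u) : cen v = cen u := by
  by_cases hst : s = t
  · subst hst
    obtain ⟨t', w, hw, hwu, hne⟩ : ∃ (t' : ℕ) (w : G), Prim t' w ∧ w ∈ cen u ∧ t' ≠ s := by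
      by_contra hcon
      push Not at hcon
      exact hn ⟨hu, hcon⟩
    have h1 := F.coprime_eq hu hw hne.symm (mem_cen.1 hwu)
    have hvw : v ∈ cen w := h1 ▸ hvu
    exact (F.coprime_eq hv hw hne.symm (mem_cen.1 hvw).symm).trans h1.symm
  · exact (F.coprime_eq hu hv hst (mem_cen.1 hvu)).symm

theorem NoNest.cen_le_of_mem (F : NoNest G) {s : ℕ} {u : G} (hu : Prim s u) (hn : ¬ Typed s u)
    {w : G} (hw : w ∈ cen u) (hwz : w ∉ Subgroup.center G) : cen w ≤ cen u := by
  obtain ⟨t, e, he, hew, hle⟩ := exists_prim hwz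
  exact hle.trans (F.eq_of_untyped hu hn he (mem_of_mem_zpowers hew hw)).le

theorem NoNest.cen_comm (F : NoNest G) {s : ℕ} {u : G} (hu : Prim s u) (hn : ¬ Typed s u) :
    ∀ x ∈ cen u, ∀ y ∈ cen u, Commute x y := by
  intro x hx y hy
  have h : x ∈ Subgroup.centralizer (cen u : Set G) := by
    refine pel_of_primes fun r hr e he hre => Subgroup.mem_centralizer_iff.2 fun c hc => ?_
    by_cases hez : e ∈ Subgroup.center G
    · exact Subgroup.mem_center_iff.1 hez c
    · have h1 := F.eq_of_untyped hu hn ⟨hr, hre, hez⟩ (mem_of_mem_zpowers he hx)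
      exact (mem_cen.1 (h1.ge hc)).symm
  exact (Subgroup.mem_centralizer_iff.1 h y hy).symm

theorem card_cen_of_idx {u v : G} (h : idx u = idx v) : Nat.card (cen u) = Nat.card (cen v) := by
  have h1 := (cen u).card_mul_index
  rw [← (cen v).card_mul_index] at h1
  change Nat.card (cen u) * idx u = Nat.card (cen v) * idx v at h1
  rw [h] at h1
  exact Nat.eq_of_mul_eq_mul_right (Nat.pos_of_ne_zero Subgroup.index_ne_zero_of_finite) h1

theorem Prim.transfer {t : ℕ} {c x y : G} (hc : Prim t c) (hcx : c ∈ cen x)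
    (h : idx x = idx y) : ∃ d ∈ cen y, Prim t d := by
  haveI := Fact.mk hc.prime
  obtain ⟨d, hd, hdp, hdz⟩ := exists_noncentral_of_card (H := cen y) (center_le_cen x)
    (le_of_eq (by rw [card_cen_of_idx h])) hcx hc.pel hc.nc
  exact ⟨d, hd, hc.prime, hdp, hdz⟩

end Cfsg.Agent.Lib.ThreeSizes21
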