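import Cfsg.Agent.Lib.ThreeSizes21.Flat

/-!
# Three class sizes, no nesting, no typed prime
-/

set_option autoImplicit false

namespace Cfsg.Agent.Lib.ThreeSizes21

open Cfsg.Agent.Lib.ClassSizes.Basic Cfsg.Agent.Lib.ClassSizes.CopTools
open Cfsg.Agent.Lib.ClassSizesFour21

variable {G : Type*} [Group G] [Finite G] {a b : ℕ}

/-- At most `[L : N ⊓ L]` centralisers are conjugate to `C(v)` by elements of `L`. -/
theorem card_orbit_le (L M : Subgroup G) (v : G) (F : Finset (Subgroup G))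
    (hM : M ≤ Subgroup.normalizer (cen v : Set G))
    (hF : ∀ H ∈ F, ∃ g ∈ L, H = cen (g * v * g⁻¹)) : F.card ≤ M.relIndex L := by
  classical
  haveI := Fintype.ofFinite (L ⧸ M.subgroupOf L)
  let f : L ⧸ M.subgroupOf L → Subgroup G := fun q => cen ((q.out : G) * v * (q.out : G)⁻¹)
  have hsub : F ⊆ Finset.univ.image f := by
    intro H hH
    obtain ⟨g, hg, rfl⟩ := hF H hH
    refine Finset.mem_image.2 ⟨((⟨g, hg⟩ : L) : L ⧸ M.subgroupOf L), Finset.mem_univ _, ?_⟩
    obtain ⟨⟨n, hn⟩, hout⟩ := QuotientGroup.mk_out_eq_mul (M.subgroupOf L) (⟨g, hg⟩ : L)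
    simp only [f, hout, Subgroup.coe_mul]
    rw [show g * (n : G) * v * (g * (n : G))⁻¹ = g * ((n : G) * v * (n : G)⁻¹) * g⁻¹ by group]
    exact cen_conj_congr (mem_normalizer_cen.1 (hM (Subgroup.mem_subgroupOf.1 hn))) g
  refine (Finset.card_le_card hsub).trans (Finset.card_image_le.trans ?_)
  rw [Finset.card_univ, ← Nat.card_eq_fintype_card]
  exact le_refl _

theorem Three.flat_free_solvable (S : Three G a b) (F : NoNest G)
    (hun : ∀ (s : ℕ) (u : G), ¬ Typed s u) : Group.IsSolvable G := by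
  classical
  by_contra hns
  have heq : ∀ {s t : ℕ} {u v : G}, Prim s u → Prim t v → v ∈ cen u → cen v = cen u :=
    fun hu hv h => F.eq_of_untyped hu (hun _ _) hv h
  have hfull : ∀ {x : G}, x ∉ Subgroup.center G → ∃ (s : ℕ) (u : G),
      Prim s u ∧ u ∈ Subgroup.zpowers x ∧ cen x = cen u := fun {x} hx => by
    obtain ⟨s, u, hu, hux, hle⟩ := exists_prim hx
    exact ⟨s, u, hu, hux, F x u hx hu.nc hle⟩
  have hti : ∀ {x y : G}, x ∉ Subgroup.center G → y ∉ Subgroup.center G → y ∈ cen x →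
      cen y = cen x := fun {x y} hx hy hyx => by
    obtain ⟨s, u, hu, -, hxu⟩ := hfull hx
    obtain ⟨t, e, he, hey, hye⟩ := hfull hy
    rw [hye, hxu]
    exact heq hu he (hxu.le (mem_of_mem_zpowers hey hyx))
  have good : ∀ {s : ℕ} {u : G}, Prim s u → Good 0 u := fun hu => ⟨_, hu, hu.prime.ne_zero⟩
  have X : Rig G 0 := by
    refine ⟨?_, ?_⟩
    · rintro u v ⟨s, hu, -⟩ ⟨t, hv, -⟩ huv
      exact (heq hu hv (mem_cen.2 huv.eq)).symm
    · rintro u ⟨s, hu, -⟩ q
      obtain ⟨t', w, hw, hwu, hne⟩ : ∃ (t' : ℕ) (w : G), Prim t' w ∧ w ∈ cen u ∧ t' ≠ s := by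
        by_contra hcon
        push Not at hcon
        exact hun s u ⟨hu, hcon⟩
      by_cases hq : t' = q
      · exact ⟨s, u, hu, hu.prime.ne_zero, fun e => hne (hq.trans e.symm), self_mem_cen u⟩
      · exact ⟨t', w, hw, hw.prime.ne_zero, hq, hwu⟩
  have hconj : ∀ {u v : G} (K : Subgroup G), Good 0 u → Good 0 v → idx u = idx v →
      (∀ (r : ℕ) (d : G), Prim r d → d ∈ cen u → ∀ x : G, IsPEl r x → x ∈ K) → ConjIn K u v := by
    intro u v K hu hv h hK
    obtain ⟨s, c, hc, hs0, -, hcu⟩ := X.other u hu 0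
    obtain ⟨t, d, hd, ht0, hts, hdu⟩ := X.other u hu s
    haveI := Fact.mk hc.prime
    haveI := Fact.mk hd.prime
    have he := card_cen_of_idx h
    exact X.conjIn hs0 ht0 hts.symm (hK s c hc hcu) (hK t d hd hdu) hu hv ⟨c, hcu, hc⟩
      (hc.transfer hcu h) ⟨d, hdu, hd⟩ (hd.transfer hdu h) (by rw [he]) (by rw [he])
  -- a self-normalising centraliser
  obtain ⟨v, hv, hvN⟩ : ∃ v : G, v ∉ Subgroup.center G ∧
      Subgroup.normalizer (cen v : Set G) ≤ cen v := by
    by_contra hcon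
    push Not at hcon
    haveI := Fintype.ofFinite G
    set 𝓕 := (Finset.univ.filter fun x : G => x ∉ Subgroup.center G).image fun x : G => cen x
    have hmem : ∀ H, H ∈ 𝓕 ↔ ∃ x : G, x ∉ Subgroup.center G ∧ cen x = H := fun H => by
      simp [𝓕]
    have hcount := card_add_sum (⊤ : Subgroup G) 𝓕
      (fun H hH => by
        obtain ⟨x, -, rfl⟩ := (hmem H).1 hH
        exact center_le_cen x)
      (fun x _ hx => ⟨cen x, (hmem _).2 ⟨x, hx, rfl⟩, self_mem_cen x⟩)
      (fun H hH H' hH' x _ hx h h' => by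
        obtain ⟨y, hy, rfl⟩ := (hmem H).1 hH
        obtain ⟨y', hy', rfl⟩ := (hmem H').1 hH'
        exact (hti hy hx h).symm.trans (hti hy' hx h'))
    simp only [inf_top_eq, Subgroup.card_top] at hcount
    have hsize : ∀ c : ℕ, (c = a ∨ c = b) →
        (𝓕.filter fun H => H.index = c).Nonempty ∧
        2 * ∑ H ∈ 𝓕.filter (fun H => H.index = c), Nat.card H ≤ Nat.card G := by
      intro c hc
      obtain ⟨x₀, hx₀⟩ : ∃ x₀ : G, idx x₀ = c := by
        rcases hc with rfl | rfl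
        · exact S.exists_a
        · exact S.exists_b
      have hx₀z := S.nc_of_idx (x := x₀) (hx₀.symm ▸ hc)
      obtain ⟨s₀, u₀, hu₀, -, he₀⟩ := hfull hx₀z
      have hui : idx u₀ = c := by rw [← hx₀]; exact congrArg Subgroup.index he₀.symm
      refine ⟨⟨cen x₀, Finset.mem_filter.2 ⟨(hmem _).2 ⟨x₀, hx₀z, rfl⟩, hx₀⟩⟩, ?_⟩
      set Fc := 𝓕.filter fun H => H.index = c
      have hcardH : ∀ H ∈ Fc, Nat.card H = Nat.card (cen u₀) := fun H hH => by
        obtain ⟨h1, h2⟩ := Finset.mem_filter.1 hH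
        obtain ⟨x, -, rfl⟩ := (hmem H).1 h1
        exact card_cen_of_idx (h2.trans hui.symm)
      rw [Finset.sum_congr rfl hcardH, Finset.sum_const, smul_eq_mul]
      have horb := card_orbit_le ⊤ _ u₀ Fc le_rfl fun H hH => by
        obtain ⟨h1, h2⟩ := Finset.mem_filter.1 hH
        obtain ⟨x, hx, rfl⟩ := (hmem H).1 h1
        obtain ⟨t, w, hw, -, hxw⟩ := hfull hx
        obtain ⟨k, hk, hk'⟩ := hconj ⊤ (good hu₀) (good hw)
          (hui.trans (h2.symm.trans (congrArg Subgroup.index hxw))) (fun _ _ _ _ x _ => Subgroup.mem_top x)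
        exact ⟨k, hk, hxw.trans hk'.symm⟩
      rw [Subgroup.relIndex_top_right] at horb
      set N := Subgroup.normalizer (cen u₀ : Set G)
      have h2 : 2 ≤ (cen u₀).relIndex N := by
        have h0 : (cen u₀).relIndex N ≠ 0 := Subgroup.index_ne_zero_of_finite
        have h1 : (cen u₀).relIndex N ≠ 1 := fun h =>
          hcon u₀ hu₀.nc (Subgroup.relIndex_eq_one.1 h)
        omega
      have h3 := Subgroup.relIndex_mul_index (Subgroup.le_normalizer : cen u₀ ≤ N)
      rw [← (cen u₀).card_mul_index, ← h3]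
      calc 2 * (Fc.card * Nat.card (cen u₀)) = Nat.card (cen u₀) * (2 * Fc.card) := by ring
        _ ≤ Nat.card (cen u₀) * ((cen u₀).relIndex N * N.index) :=
          Nat.mul_le_mul_left _ (Nat.mul_le_mul h2 horb)
    obtain ⟨⟨A, hA⟩, hAle⟩ := hsize a (Or.inl rfl)
    obtain ⟨⟨B, hB⟩, hBle⟩ := hsize b (Or.inr rfl)
    have hne : A ≠ B := fun h => S.lt.ne
      ((Finset.mem_filter.1 hA).2.symm.trans (h ▸ (Finset.mem_filter.1 hB).2))
    have h2F : 1 < 𝓕.card := Finset.one_lt_card.2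
      ⟨A, (Finset.mem_filter.1 hA).1, B, (Finset.mem_filter.1 hB).1, hne⟩
    have hsplit := Finset.sum_filter_add_sum_filter_not 𝓕 (fun H => H.index = a)
      (fun H => Nat.card H)
    have hnot : 𝓕.filter (fun H => ¬ H.index = a) = 𝓕.filter (fun H => H.index = b) := by
      refine Finset.filter_congr fun H hH => ?_
      obtain ⟨x, hx, rfl⟩ := (hmem H).1 hH
      have h1 := S.lt
      rcases S.cases hx with e | e <;> simp only [idx] at e <;> omega
    rw [hnot] at hsplit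
    have hz : 0 < Nat.card (Subgroup.center G) := Nat.card_pos
    have h4 : 2 * Nat.card (Subgroup.center G) ≤ 𝓕.card * Nat.card (Subgroup.center G) :=
      Nat.mul_le_mul_right _ h2F
    omega
  obtain ⟨s₀, v₀, hv₀, -, hvv₀⟩ := hfull hv
  set H := cen v₀
  have hHN : Subgroup.normalizer (H : Set G) ≤ H := by
    rw [show H = cen v from hvv₀.symm]
    exact hvN
  have hab := F.cen_comm hv₀ (hun _ _)
  -- normal complements for the primes of `H`
  have hsyl : ∀ s : ℕ, (∃ d ∈ H, Prim s d) → ∃ (R : Sylow s G) (K : Subgroup G),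
      (R : Subgroup G) ≤ H ∧ K.Normal ∧ Subgroup.IsComplement' K (R : Subgroup G) ∧
        commutator G ≤ K ∧ ¬ s ∣ Nat.card K := by
    rintro s ⟨d, hdH, hd⟩
    haveI := Fact.mk hd.prime
    obtain ⟨R, hdR, hR⟩ := TwoClassSizes.exists_sylow_inf (p := s) H
      (hd.pel.isPGroup hd.prime) (Subgroup.zpowers_le.2 hdH)
    have hdR' : d ∈ (R : Subgroup G) := hdR (Subgroup.mem_zpowers d)
    have hdcen : cen d = H := heq hv₀ hd hdH
    have hmove : ∀ g : G, g * d * g⁻¹ ∈ H → g ∈ H := fun g hg => hHN (by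
      have h1 := heq hv₀ (hd.conj g) hg
      rw [← cen_conj_congr hdcen.symm g] at h1
      exact mem_normalizer_cen.2 (h1))
    have hRH : (R : Subgroup G) ≤ H := by
      by_contra hne
      have hlt : ((R : Subgroup G) ⊓ H).subgroupOf (R : Subgroup G) < ⊤ :=
        lt_top_iff_ne_top.2 fun h => hne fun x hx => (Subgroup.subgroupOf_eq_top.1 h hx).2
      have : Group.IsNilpotent (R : Subgroup G) := R.2.isNilpotent
      obtain ⟨g, hg, hgT⟩ := SetLike.exists_of_lt
        (Group.normalizerCondition_of_isNilpotent _ hlt)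
      refine hgT (Subgroup.mem_subgroupOf.2 ⟨g.2, hmove g ?_⟩)
      exact (Subgroup.mem_subgroupOf.1 ((Subgroup.mem_normalizer_iff.1 hg ⟨d, hdR'⟩).1
        (Subgroup.mem_subgroupOf.2 ⟨hdR', hdH⟩))).2
    have hNR : Subgroup.normalizer ((R : Subgroup G) : Set G) ≤
        Subgroup.centralizer ((R : Subgroup G) : Set G) := fun g hg => by
      have hgH : g ∈ H := hmove g (hRH ((Subgroup.mem_normalizer_iff.1 hg d).1 hdR'))
      exact Subgroup.mem_centralizer_iff.2 fun x hx => (hab x (hRH hx) g hgH).eq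
    obtain ⟨-, K, h1, h2, h3, h4⟩ := exists_abelian_complement R hNR
    exact ⟨R, K, hRH, h1, h2, h3, h4⟩
  choose R Ks hRH hKn hKc hKcomm hKd using hsyl
  set K : Subgroup G := ⨅ s : {s : ℕ // ∃ d ∈ H, Prim s d}, Ks s.1 s.2
  haveI hKN : K.Normal := Subgroup.normal_iInf_normal fun s => hKn s.1 s.2
  have hKcom : commutator G ≤ K := le_iInf fun s => hKcomm s.1 s.2
  have hinK : ∀ t : ℕ, t.Prime → (∀ d ∈ H, ¬ Prim t d) → ∀ x : G, IsPEl t x → x ∈ K := by
    intro t ht hno x hx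
    refine Subgroup.mem_iInf.2 ?_
    rintro ⟨s, hs⟩
    obtain ⟨d, hdH, hd⟩ := id hs
    haveI := Fact.mk hd.prime
    haveI := hKn s hs
    have h1 := Subgroup.pow_index_mem (Ks s hs) x
    have h2 : (Ks s hs).index = Nat.card (R s hs : Subgroup G) := (hKc s hs).symm.index_eq_card
    obtain ⟨j, hj⟩ := (R s hs).2.exists_card_eq
    rw [h2, hj] at h1
    obtain ⟨i, hi⟩ := exists_pow_eq_self_of_coprime
      (hx.coprime ht (((Nat.coprime_primes ht hd.prime).2 fun e => hno d hdH (e ▸ hd)).pow_right j)).symm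
    exact hi ▸ Subgroup.pow_mem _ h1 i
  have houtK : ∀ (t : ℕ) (e : G), e ∈ K → Prim t e → ∀ d ∈ H, ¬ Prim t d := by
    intro t e heK he d hdH hd
    have h1 : e ∈ Ks t ⟨d, hdH, hd⟩ := Subgroup.mem_iInf.1 heK ⟨t, d, hdH, hd⟩
    obtain ⟨k, hk⟩ := he.pel
    have h2 : orderOf e ∣ Nat.card (Ks t ⟨d, hdH, hd⟩) := by
      rw [← Subgroup.orderOf_mk e h1]
      exact orderOf_dvd_natCard _
    refine he.nc ?_
    rw [orderOf_eq_one_iff.1 (Nat.eq_one_of_dvd_coprimes
      ((he.prime.coprime_iff_not_dvd.2 (hKd t ⟨d, hdH, hd⟩)).pow_left k)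
      (orderOf_dvd_of_pow_eq_one hk) h2)]
    exact one_mem _
  -- `K` is abelian
  have hKab : ∀ x ∈ K, ∀ y ∈ K, Commute x y := by
    by_cases hKz : K ≤ Subgroup.center G
    · exact fun x hx y _ => (Subgroup.mem_center_iff.1 (hKz hx) y).symm
    obtain ⟨x₀, hx₀K, hx₀z⟩ := SetLike.not_le_iff_exists.1 hKz
    obtain ⟨t₀, e₀, he₀, he₀x, hxe₀⟩ := hfull hx₀z
    have he₀K := mem_of_mem_zpowers he₀x hx₀K
    have hne : ∀ {t : ℕ} {e : G}, e ∈ K → Prim t e → idx e ≠ idx v₀ := fun {t e} heK he h => by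
      obtain ⟨d, hd, hdP⟩ := he.transfer (self_mem_cen e) h
      exact houtK t e heK he d hd hdP
    have hall : ∀ (r : ℕ) (d : G), Prim r d → d ∈ cen e₀ → ∀ x : G, IsPEl r x → x ∈ K := by
      intro r d hd hde
      refine hinK r hd.prime fun d' hd'H hd' => ?_
      haveI := Fact.mk hd.prime
      obtain ⟨g, hg⟩ := exists_conj_mem hd.pel (R r ⟨d', hd'H, hd'⟩)
      have h1 := heq hv₀ (hd.conj g) (hRH r _ hg)
      refine hne he₀K he₀ ?_
      rw [← conj_idx g e₀]
      exact congrArg Subgroup.index ((cen_conj_congr (heq he₀ hd hde).symm g).trans h1)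
    haveI := Fintype.ofFinite G
    set 𝓚 := (Finset.univ.filter fun x : G => x ∈ K ∧ x ∉ Subgroup.center G).image fun x : G => cen x
    have hmem : ∀ L, L ∈ 𝓚 ↔ ∃ x : G, (x ∈ K ∧ x ∉ Subgroup.center G) ∧ cen x = L := fun L => by
      simp [𝓚]
    have hKconj : ∀ L ∈ 𝓚, ∃ g ∈ K, L = cen (g * e₀ * g⁻¹) := by
      intro L hL
      obtain ⟨x, ⟨hxK, hxz⟩, rfl⟩ := (hmem L).1 hL
      obtain ⟨t, e, he, hex, hxe⟩ := hfull hxz
      have heK := mem_of_mem_zpowers hex hxK
      have hidx : idx e₀ = idx e := by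
        rcases S.cases he.nc with q1 | q1 <;> rcases S.cases he₀.nc with q2 | q2 <;>
          rcases S.cases hv₀.nc with q3 | q3 <;>
          have q4 := hne heK he <;> have q5 := hne he₀K he₀ <;> omega
      obtain ⟨k, hk, hk'⟩ := hconj K (good he₀) (good he) hidx hall
      exact ⟨k, hk, hxe.trans hk'.symm⟩
    have hcount := card_add_sum K 𝓚
      (fun L hL => by
        obtain ⟨x, -, rfl⟩ := (hmem L).1 hL
        exact center_le_cen x)
      (fun x hxK hx => ⟨cen x, (hmem _).2 ⟨x, ⟨hxK, hx⟩, rfl⟩, self_mem_cen x⟩)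
      (fun L hL L' hL' x _ hx h h' => by
        obtain ⟨y, ⟨-, hy⟩, rfl⟩ := (hmem L).1 hL
        obtain ⟨y', ⟨-, hy'⟩, rfl⟩ := (hmem L').1 hL'
        exact (hti hy hx h).symm.trans (hti hy' hx h'))
    have hcard : ∀ L ∈ 𝓚, Nat.card (L ⊓ K : Subgroup G) = Nat.card (cen e₀ ⊓ K : Subgroup G) := by
      intro L hL
      obtain ⟨g, hg, rfl⟩ := hKconj L hL
      refine (Nat.card_congr
        { toFun := fun y => ⟨g⁻¹ * y * g, cen_conj_mem.1 y.2.1, ?_⟩
          invFun := fun y => ⟨g * y * g⁻¹, cen_conj_mem.2 (by simpa [mul_assoc] using y.2.1),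
            hKN.conj_mem _ y.2.2 g⟩
          left_inv := fun y => Subtype.ext (by group)
          right_inv := fun y => Subtype.ext (by group) })
      have := hKN.conj_mem _ y.2.2 g⁻¹
      rwa [inv_inv] at this
    rw [Finset.sum_congr rfl hcard, Finset.sum_const, smul_eq_mul] at hcount
    have hone : 𝓚.card ≤ 1 := by
      have horb := card_orbit_le K (cen e₀) e₀ 𝓚 Subgroup.le_normalizer hKconj
      have h2 := Subgroup.card_mul_index ((cen e₀ ⊓ K).subgroupOf K)
      rw [Nat.card_congr (Subgroup.subgroupOfEquivOfLe (inf_le_right : cen e₀ ⊓ K ≤ K)).toEquiv] at h2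
      change _ * (cen e₀ ⊓ K).relIndex K = _ at h2
      rw [Subgroup.inf_relIndex_right] at h2
      have h3 : 𝓚.card * Nat.card (cen e₀ ⊓ K : Subgroup G) ≤ Nat.card K := by
        rw [← h2, mul_comm]
        exact Nat.mul_le_mul_left _ horb
      have h4 : 0 < Nat.card (Subgroup.center G ⊓ K : Subgroup G) := Nat.card_pos
      refine Nat.le_of_mul_le_mul_right ?_ h4
      omega
    have hle : ∀ x ∈ K, x ∈ cen e₀ := by
      intro x hx
      by_cases hxz : x ∈ Subgroup.center G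
      · exact center_le_cen e₀ hxz
      · have := Finset.card_le_one.1 hone (cen x) ((hmem _).2 ⟨x, ⟨hx, hxz⟩, rfl⟩) (cen x₀)
          ((hmem _).2 ⟨x₀, ⟨hx₀K, hx₀z⟩, rfl⟩)
        rw [hxe₀] at this
        exact this ▸ self_mem_cen x
    exact fun x hx y hy => F.cen_comm he₀ (hun _ _) x (hle x hx) y (hle y hy)
  refine hns ?_
  haveI : Group.IsSolvable K :=
    Group.isSolvable_of_comm fun x y => Subtype.ext (hKab x x.2 y y.2).eq
  haveI : Group.IsSolvable (G ⧸ K) := Group.isSolvable_of_comm fun x y => by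
    obtain ⟨x, rfl⟩ := QuotientGroup.mk'_surjective K x
    obtain ⟨y, rfl⟩ := QuotientGroup.mk'_surjective K y
    rw [← commutatorElement_eq_one_iff_mul_comm, ← map_commutatorElement]
    exact (QuotientGroup.eq_one_iff _).2
      (hKcom (Subgroup.commutator_mem_commutator (Subgroup.mem_top x) (Subgroup.mem_top y)))
  exact Group.isSolvable_of_ker_le_range K.subtype (QuotientGroup.mk' K)
    (by rw [QuotientGroup.ker_mk', Subgroup.range_subtype])

end Cfsg.Agent.Lib.ThreeSizes21
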