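import Cfsg.Agent.Lib.ThreeSizes21.Pairing

/-!
# Three class sizes, no nesting, a typed prime
-/

set_option autoImplicit false

namespace Cfsg.Agent.Lib.ThreeSizes21

open Cfsg.Agent.Lib.ClassSizes.Basic Cfsg.Agent.Lib.ClassSizes.CopTools
open Cfsg.Agent.Lib.ClassSizesFour21

variable {G : Type*} [Group G] [Finite G] {a b : ℕ}

theorem Three.flat_typed_solvable (S : Three G a b) (F : NoNest G) {p : ℕ} {x₀ : G}
    (hx₀ : Typed p x₀) : Group.IsSolvable G := by
  by_contra hns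
  haveI := Fact.mk hx₀.1.prime
  have two : ∀ {u v w : G}, u ∉ Subgroup.center G → v ∉ Subgroup.center G → w ∉ Subgroup.center G →
      idx u ≠ idx v → idx w = idx u ∨ idx w = idx v := by
    intro u v w hu hv hw h
    rcases S.cases hu with e1 | e1 <;> rcases S.cases hv with e2 | e2 <;>
      rcases S.cases hw with e3 | e3 <;> omega
  -- the typed prime is unique
  have huniq : ∀ (q : ℕ) (y : G), Typed q y → q = p := by
    intro q y hy
    by_contra hqp
    have hne : idx y ≠ idx x₀ := fun h => by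
      obtain ⟨d, hd, hdP⟩ := hy.1.transfer (self_mem_cen y) h
      exact hqp (hx₀.2 q d hdP hd)
    obtain ⟨r, c, hc, hrp, hrq⟩ := exists_third hns p q
    rcases two hy.1.nc hx₀.1.nc hc.nc hne with h | h
    · obtain ⟨d, hd, hdP⟩ := hc.transfer (self_mem_cen c) h
      exact hrq (hy.2 r d hdP hd)
    · obtain ⟨d, hd, hdP⟩ := hc.transfer (self_mem_cen c) h
      exact hrp (hx₀.2 r d hdP hd)
  have hunt : ∀ {s : ℕ} {u : G}, Prim s u → s ≠ p → ¬ Typed s u := fun _ hsp h =>
    hsp (huniq _ _ h)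
  have hidx : ∀ {u v : G}, Good p u → Good p v → idx u = idx v := by
    intro u v hu hv
    obtain ⟨s, hs, hsp⟩ := hu
    obtain ⟨t, ht, htp⟩ := hv
    have h1 : idx u ≠ idx x₀ := fun h => by
      obtain ⟨d, hd, hdP⟩ := hs.transfer (self_mem_cen u) h
      exact hsp (hx₀.2 s d hdP hd)
    have h2 : idx v ≠ idx x₀ := fun h => by
      obtain ⟨d, hd, hdP⟩ := ht.transfer (self_mem_cen v) h
      exact htp (hx₀.2 t d hdP hd)
    rcases two hs.nc hx₀.1.nc ht.nc h1 with e | e
    · exact e.symm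
    · exact absurd e h2
  have hP : Parts G p := fun u v t hu hv _ _ => by rw [card_cen_of_idx (hidx hu hv)]
  have X : Rig G p := by
    refine ⟨?_, ?_⟩
    · rintro u v ⟨s, hu, hsp⟩ ⟨t, hv, -⟩ huv
      exact (F.eq_of_untyped hu (hunt hu hsp) hv (mem_cen.2 huv.eq)).symm
    · intro u hu q
      obtain ⟨t, e, he, htp, htq⟩ := exists_third hns p q
      obtain ⟨d, hd, hdP⟩ := he.transfer (self_mem_cen e) (hidx ⟨t, he, htp⟩ hu)
      exact ⟨t, d, hdP, htp, htq, hd⟩
  obtain ⟨t₀, c, hc, ht₀p, -⟩ := exists_third hns p p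
  have hcg : Good p c := ⟨t₀, hc, ht₀p⟩
  by_cases hfull : PIndex p (cen c)
  · refine hns (solvable_of_prod hfull (F.cen_comm hc (hunt hc ht₀p)) fun m hm => ⟨m, hm, ?_⟩)
    rw [inv_mul_cancel, map_one]
    exact one_mem _
  simp only [PIndex] at hfull
  push Not at hfull
  obtain ⟨s, hs, hsp, hsd⟩ := hfull
  haveI := Fact.mk hs
  obtain ⟨T⟩ : Nonempty (Sylow s G) := inferInstance
  obtain ⟨e, he, hez⟩ := SetLike.not_le_iff_exists.1 ((exists_dvd_iff T).1 ⟨c, hsd⟩)
  obtain ⟨u, hu, huT, hup, hcomm⟩ := exists_nearly T ⟨hs, isPEl_of_mem T.2 he, hez⟩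
  have hug : Good p u := ⟨s, hu, hsp⟩
  have hnle : ¬ (T : Subgroup G) ≤ cen u := fun h => by
    have := not_dvd_of_sylow_le T h
    change ¬ s ∣ idx u at this
    rw [hidx hug hcg] at this
    exact this hsd
  obtain ⟨g, hg, hgu⟩ := SetLike.not_le_iff_exists.1 hnle
  have hgp : Prim s g := ⟨hs, isPEl_of_mem T.2 hg, fun h => hgu (center_le_cen u h)⟩
  have hgg : Good p g := ⟨s, hgp, hsp⟩
  have hT : (T : Subgroup G) ≤ Subgroup.normalizer (cen u : Set G) := fun h hh =>
    mem_normalizer_of_comm (hcomm h hh)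
  have hfact : (Nat.card G).factorization s ≤ (Nat.card (cen u)).factorization s + 1 := by
    have h1 := card_inf_of_le_normalizer T hT
    have h2 := Subgroup.card_mul_index (((T : Subgroup G) ⊓ cen u).subgroupOf (T : Subgroup G))
    rw [Nat.card_congr (Subgroup.subgroupOfEquivOfLe
      (inf_le_left : (T : Subgroup G) ⊓ cen u ≤ T)).toEquiv, h1, T.card_eq_multiplicity] at h2
    change _ * ((T : Subgroup G) ⊓ cen u).relIndex (T : Subgroup G) = _ at h2
    rw [Subgroup.inf_relIndex_left] at h2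
    refine (Nat.pow_le_pow_iff_right hs.one_lt).1 ?_
    rw [← h2, pow_succ]
    exact Nat.mul_le_mul_left _ (X.relIndex_le T hug hup hcomm)
  have hgsu : g ^ s ∈ cen u := TwoClassSizes.pow_mem_cen
    (by rw [commutatorElement_def]; exact hcomm g hg) hup
  have hug' : u ∉ cen g := fun h => hgu (mem_cen_comm.1 h)
  -- the normaliser of `C(u)` is `C(u)⟨g⟩`, symmetrically for `C(g)`
  have hgen : ∀ {v k : G}, Prim s v → Good p v → k ^ s ∈ cen v → k ∉ cen v →
      k * v * k⁻¹ * v⁻¹ ∈ Subgroup.center G →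
      ∀ n ∈ Subgroup.normalizer (cen v : Set G), ∃ h ∈ cen v, ∃ i : ℤ, n = h * k ^ i := by
    intro v k hv hvg hks hkv hζ
    refine normalizer_gen hv.pel hv.nc (F.cen_comm hv (hunt hv hsp))
      (fun w hw hwz => F.cen_le_of_mem hv (hunt hv hsp) hw hwz) ?_ hks hkv hζ ?_
    · obtain ⟨t, d, hd, -, hts, hdv⟩ := X.other v hvg s
      exact ⟨t, d, hd, hts, hdv⟩
    · rw [card_cen_of_idx (hidx hvg hug)]
      exact hfact
  have hζ := hcomm g hg
  have hζ' : u * g * u⁻¹ * g⁻¹ ∈ Subgroup.center G := by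
    have := inv_mem hζ
    rwa [show (g * u * g⁻¹ * u⁻¹)⁻¹ = u * g * u⁻¹ * g⁻¹ by group] at this
  have h1 := hgen hu hug hgsu hgu hζ
  have h2 := hgen hgp hgg (center_le_cen g hup) hug' hζ'
  set f := QuotientGroup.mk' (Subgroup.center G)
  have hf : ∀ x y : G, x * y * x⁻¹ * y⁻¹ ∈ Subgroup.center G ↔ Commute (f x) (f y) := by
    intro x y
    rw [← commutatorElement_eq_one_iff_commute, ← map_commutatorElement, commutatorElement_def]
    exact (QuotientGroup.eq_one_iff _).symm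
  have hrad : ∀ {v k : G}, Good p v → k * v * k⁻¹ * v⁻¹ ∈ Subgroup.center G →
      (∀ n ∈ Subgroup.normalizer (cen v : Set G), ∃ h ∈ cen v, ∃ i : ℤ, n = h * k ^ i) →
      f v ∈ PrimePowerClass.Radical.solRad (G ⧸ Subgroup.center G) := by
    intro v k hvg hζ hn
    refine mem_radical (X.pindex_normalizer hP hvg) fun m hm => ?_
    obtain ⟨h, hh, i, rfl⟩ := hn m hm
    rw [hf, map_mul, map_zpow]
    exact ((show Commute h v from (mem_cen.1 hh).symm).map f).mul_left (((hf _ _).1 hζ).zpow_left i)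
  have hgR := hrad hgg hζ' h2
  refine hns (solvable_of_prod (X.pindex_normalizer hP hug) (F.cen_comm hu (hunt hu hsp))
    fun m hm => ?_)
  obtain ⟨h, hh, i, rfl⟩ := h1 m hm
  refine ⟨h, hh, ?_⟩
  rw [inv_mul_cancel_left, map_zpow]
  exact Subgroup.zpow_mem _ hgR i

end Cfsg.Agent.Lib.ThreeSizes21
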