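import Cfsg.Agent.Lib.ThreeSizes21.Nested
import Cfsg.Agent.Lib.ThreeSizes21.FlatTyped
import Cfsg.Agent.Lib.ThreeSizes21.FlatFree

/-!
# A group with three class sizes is solvable
-/

set_option autoImplicit false

namespace Cfsg.Agent.Lib.ThreeSizes21

open Cfsg.Agent.Lib.ClassSizes.Basic Cfsg.Agent.Lib.ClassSizes.CopTools

variable {G : Type*} [Group G] [Finite G] {a b : ℕ}

theorem Three.solvable (S : Three G a b) : Group.IsSolvable G := by
  by_cases h : ∃ x y : G, x ∉ Subgroup.center G ∧ y ∉ Subgroup.center G ∧ cen x < cen y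
  · obtain ⟨x, y, hx, hy, hlt⟩ := h
    exact S.nested_solvable hx hy hlt
  have F : NoNest G := fun x y hx hy hle => by
    by_contra hne
    exact h ⟨x, y, hx, hy, lt_of_le_of_ne hle hne⟩
  by_cases ht : ∃ (p : ℕ) (x : G), Typed p x
  · obtain ⟨p, x, hx⟩ := ht
    exact S.flat_typed_solvable F hx
  · exact S.flat_free_solvable F fun s u hu => ht ⟨s, u, hu⟩

end Cfsg.Agent.Lib.ThreeSizes21
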