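import Cfsg.Agent.Lib.ThreeSizes21.OneClass
import Cfsg.Agent.Lib.TwoPRegular.Main

/-!
# Three class sizes: nested centralisers
-/

set_option autoImplicit false

namespace Cfsg.Agent.Lib.ThreeSizes21

open Cfsg.Agent.Lib.ClassSizes.Basic Cfsg.Agent.Lib.ClassSizes.CopTools
open Cfsg.Agent.Lib.ClassSizesFour21
open Cfsg.Agent.Lib.PrimePowerClass.Radical (solRad solRad_isSolvable)

variable {G : Type*} [Group G] {a b r : ℕ}

/-- Some `t`-element of `C(w)` is not central in it. -/
def NonC (t : ℕ) (w : G) : Prop := ∃ v ∈ cen w, IsPEl t v ∧ ¬ cen w ≤ cen v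

theorem cen_subgroupOf {D : Subgroup G} (v : D) :
    Subgroup.centralizer ({v} : Set D) = (cen (v : G)).subgroupOf D := by
  ext w
  rw [Subgroup.mem_subgroupOf, mem_cen, mem_cen]
  exact ⟨fun h => congrArg Subtype.val h, fun h => Subtype.ext h⟩

theorem mem_center_sub {D : Subgroup G} (v : D) :
    v ∈ Subgroup.center D ↔ D ≤ cen (v : G) := by
  rw [Subgroup.mem_center_iff]
  exact ⟨fun h w hw => mem_cen.2 (congrArg Subtype.val (h ⟨w, hw⟩)).symm,
    fun h w => Subtype.ext (mem_cen.1 (h w.2)).symm⟩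

variable [Finite G]

theorem Three.relIndex_cases (S : Three G a b) (hr : b = a * r) {w v : G} (hw : idx w = a)
    (hv : v ∈ cen w) (hcop : (orderOf w).Coprime (orderOf v)) :
    cen w ≤ cen v ∨ (cen v).relIndex (cen w) = r := by
  have e := cen_mul (show Commute w v from mem_cen.1 hv) hcop
  have hle : cen (w * v) ≤ cen w := e.le.trans inf_le_left
  have hd : a ∣ idx (w * v) := hw ▸ Subgroup.index_dvd_of_le hle
  have hz : w * v ∉ Subgroup.center G := fun h => by
    have h1 := idx_one_iff.2 h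
    rw [h1, Nat.dvd_one] at hd
    have := S.one_lt
    omega
  rcases S.cases hz with h | h
  · exact Or.inl ((cen_eq_of_le_idx hle (hw.trans h.symm)) ▸ e.le.trans inf_le_right)
  · right
    have h2 := Subgroup.relIndex_mul_index (inf_le_left : cen w ⊓ cen v ≤ cen w)
    rw [Subgroup.inf_relIndex_left, ← e] at h2
    change (cen v).relIndex (cen w) * idx w = idx (w * v) at h2
    rw [hw, h, hr, mul_comm] at h2
    exact Nat.eq_of_mul_eq_mul_left (by have := S.one_lt; omega) h2

/-- For a primary element of class size `a` the primes acting on its centraliser. -/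
theorem Three.single (S : Three G a b) (hr : b = a * r) {l s : ℕ} {w : G} (hw : Prim l w)
    (hwa : idx w = a) (hs : s.Prime) (hsl : s ≠ l) (hn : NonC s w) :
    (∀ t : ℕ, t.Prime → t ∣ r → t = l) ∨
      ((∀ t : ℕ, t.Prime → t ≠ l → NonC t w → t = s) ∧
        ∀ t : ℕ, t.Prime → t ∣ r → t = l ∨ t = s) := by
  haveI := Fact.mk hw.prime
  have hSet : TwoPRegular.Setup l (cen w) r := by
    refine ⟨hw.prime, fun v hv hvz => ?_⟩
    change (Subgroup.centralizer ({v} : Set (cen w))).index = r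
    rw [cen_subgroupOf]
    refine (S.relIndex_cases hr hwa v.2 ?_).resolve_left fun h => hvz ((mem_center_sub v).2 h)
    rw [Subgroup.orderOf_coe]
    exact hw.pel.coprime hw.prime hv.symm
  have hact : ∀ t : ℕ, t.Prime → t ≠ l → NonC t w → TwoPRegular.Act l (cen w) t := by
    rintro t ht htl ⟨v, hv, hvt, hvn⟩
    obtain ⟨k, hk⟩ := hvt
    obtain ⟨j, hj⟩ := Lib.Elem70.orderOf_eq_pow_of_pow_eq_one ht hk
    exact ⟨ht, htl, ⟨v, hv⟩, fun h => hvn ((mem_center_sub ⟨v, hv⟩).1 h), j,
      by rw [Subgroup.orderOf_mk]; exact hj⟩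
  obtain ⟨-, -, v₀, hv₀, k, hk⟩ := hact s hs hsl hn
  have hreg : TwoPRegular.Reg l v₀ := TwoPRegular.reg_of_primePow hw.prime hs hsl ⟨k, hk⟩
  by_cases T : TwoPRegular.TwoAct l (cen w)
  · exact Or.inl fun t ht htr => TwoPRegular.eq_of_dvd_index hSet T hreg hv₀ ht htr
  simp only [TwoPRegular.TwoAct] at T
  push Not at T
  obtain ⟨q, hq⟩ := T
  have hsq : s = q := hq s (hact s hs hsl hn)
  refine Or.inr ⟨fun t ht htl h => (hq t (hact t ht htl h)).trans hsq.symm, fun t ht htr => ?_⟩
  by_cases htl : t = l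
  · exact Or.inl htl
  · exact Or.inr ((hq t (TwoPRegular.act_of_dvd hSet hreg hv₀ ht htl htr)).trans hsq.symm)

theorem Three.factorization_idx (S : Three G a b) (hr : b = a * r) {u : G}
    (hu : u ∉ Subgroup.center G) {t : ℕ} (htr : ¬ t ∣ r) :
    (idx u).factorization t = a.factorization t := by
  have hr0 : r ≠ 0 := by rintro rfl; exact htr (dvd_zero t)
  rcases S.cases hu with h | h <;> rw [h]
  rw [hr, Nat.factorization_mul (by have := S.one_lt; omega) hr0, Finsupp.add_apply,
    Nat.factorization_eq_zero_of_not_dvd htr, add_zero]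

theorem Three.parts (S : Three G a b) (hr : b = a * r) {u v : G} (hu : u ∉ Subgroup.center G)
    (hv : v ∉ Subgroup.center G) {t : ℕ} (htr : ¬ t ∣ r) :
    (Nat.card (cen u)).factorization t = (Nat.card (cen v)).factorization t := by
  have h1 := factorization_add u t
  have h2 := factorization_add v t
  rw [S.factorization_idx hr hu htr] at h1
  rw [S.factorization_idx hr hv htr] at h2
  omega

/-- Nested centralisers: the class sizes differ by a prime power, or the group is solvable. -/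
theorem Three.exists_prime (S : Three G a b) (hns : ¬ Group.IsSolvable G) (hr : b = a * r) {x y : G}
    (hy : idx y = a) (hx : idx x = b) (hxy : cen x ≤ cen y) :
    ∃ p : ℕ, p.Prime ∧ p ∣ r ∧ ∀ t : ℕ, t.Prime → t ∣ r → t = p := by
  obtain ⟨p₀, hp₀, hp₀r⟩ := Nat.exists_prime_and_dvd (show r ≠ 1 by
    rintro rfl
    have := S.lt
    omega)
  suffices h : ∃ p : ℕ, ∀ t : ℕ, t.Prime → t ∣ r → t = p by
    obtain ⟨p, hp⟩ := h
    exact ⟨p₀, hp₀, hp₀r, fun t ht htr => (hp t ht htr).trans (hp p₀ hp₀ hp₀r).symm⟩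
  obtain ⟨l, w, hw, -, hwy⟩ := exists_prim (S.nc_of_idx (Or.inl hy))
  have hwa : idx w = a := by
    rcases S.cases hw.nc with h | h
    · exact h
    · have := Nat.le_of_dvd (by have := S.one_lt; omega)
        (hy ▸ h ▸ Subgroup.index_dvd_of_le hwy : b ∣ a)
      have := S.lt
      omega
  have hxw : cen x ≤ cen w := hxy.trans hwy
  by_cases hA : ∃ s : ℕ, s.Prime ∧ s ≠ l ∧ NonC s w
  swap
  · push Not at hA
    refine ⟨l, fun t ht htr => ?_⟩
    by_contra htl
    haveI := Fact.mk ht
    obtain ⟨Q, hQ, hQp, hQc⟩ := exists_psub (p := t) (cen w)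
    have hQx : Q ≤ cen x := fun q hq => by
      have h1 : cen w ≤ cen q := by
        by_contra hn
        exact hA t ht htl ⟨q, hQ hq, isPEl_of_mem hQp hq, hn⟩
      exact mem_cen_comm.1 (h1 (hxw (self_mem_cen x)))
    have h2 := (Nat.Prime.pow_dvd_iff_le_factorization ht Nat.card_pos.ne').1
      (hQc ▸ Subgroup.card_dvd_of_le hQx)
    have h3 := factorization_add x t
    have h4 := factorization_add w t
    have hr0 : r ≠ 0 := by
      rintro rfl
      have := S.lt
      omega
    have h5 : 0 < r.factorization t := ht.factorization_pos_of_dvd hr0 htr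
    rw [hx, hr, Nat.factorization_mul (by have := S.one_lt; omega) hr0, Finsupp.add_apply] at h3
    rw [hwa] at h4
    omega
  obtain ⟨s, hs, hsl, hn⟩ := hA
  rcases S.single hr hw hwa hs hsl hn with h | ⟨hone, hpr⟩
  · exact ⟨l, h⟩
  by_cases hlr : l ∣ r
  swap
  · exact ⟨s, fun t ht htr => (hpr t ht htr).resolve_left fun e => hlr (e ▸ htr)⟩
  by_cases hsr : s ∣ r
  swap
  · exact ⟨l, fun t ht htr => (hpr t ht htr).resolve_right fun e => hsr (e ▸ htr)⟩
  exfalso
  obtain ⟨t, c, hc, htl, hts⟩ := exists_third hns l s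
  haveI := Fact.mk hc.prime
  have htr : ¬ t ∣ r := fun h => (hpr t hc.prime h).elim htl hts
  have hcen : ∀ v ∈ cen w, IsPEl t v → v ∈ Subgroup.center G := by
    intro v hv hvt
    by_contra hvz
    have hle : cen w ≤ cen v := by
      by_contra h
      exact hts (hone t hc.prime htl ⟨v, hv, hvt, h⟩)
    have hva : idx v = a := by
      rcases S.cases hvz with h | h
      · exact h
      · have := Nat.le_of_dvd (by have := S.one_lt; omega)
          (hwa ▸ h ▸ Subgroup.index_dvd_of_le hle : b ∣ a)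
        have := S.lt
        omega
    have heq : cen w = cen v := cen_eq_of_le_idx hle (hva.trans hwa.symm)
    have hn' : NonC s v := by
      obtain ⟨d, hd, hds, hdn⟩ := hn
      exact ⟨d, heq ▸ hd, hds, heq ▸ hdn⟩
    rcases S.single hr ⟨hc.prime, hvt, hvz⟩ hva hs hts.symm hn' with h | ⟨-, h⟩
    · exact htl (h l hw.prime hlr).symm
    · exact (h l hw.prime hlr).elim (fun e => htl e.symm) fun e => hsl e.symm
  exact hc.nc (central_of_factorization_le (center_le_cen c)
    ((S.parts hr hc.nc hw.nc htr).trans_le (factorization_le_of_central hcen))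
    (self_mem_cen c) hc.pel)

/-- A normal solvable subgroup whose index is a power of `p`. -/
theorem solvable_of_pindex {p : ℕ} [hp : Fact p.Prime] {N : Subgroup G} [N.Normal]
    (hN : Group.IsSolvable N) (h : PIndex p N) : Group.IsSolvable G := by
  obtain ⟨k, hk⟩ := eq_pow_of_primes (p := p) Subgroup.index_ne_zero_of_finite fun t ht htd => by
    by_contra htp
    exact h t ht htp htd
  haveI : Group.IsNilpotent (G ⧸ N) := (IsPGroup.of_card (n := k) hk).isNilpotent
  haveI := hN
  exact Group.isSolvable_of_ker_le_range N.subtype (QuotientGroup.mk' N)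
    (by rw [QuotientGroup.ker_mk', Subgroup.range_subtype])

theorem Three.nested_solvable (S : Three G a b) {x y : G} (hx : x ∉ Subgroup.center G)
    (hy : y ∉ Subgroup.center G) (hlt : cen x < cen y) : Group.IsSolvable G := by
  by_contra hns
  have hd : idx y ∣ idx x := Subgroup.index_dvd_of_le hlt.le
  have hne : idx y ≠ idx x := fun h => hlt.ne (cen_eq_of_le_idx hlt.le h)
  have hlt' := S.lt
  have h1 := S.one_lt
  obtain ⟨hxb, hya⟩ : idx x = b ∧ idx y = a := by
    rcases S.cases hx with e | e <;> rcases S.cases hy with e' | e' <;> rw [e, e'] at hd hne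
    · exact absurd rfl hne
    · exact absurd (Nat.le_of_dvd (by omega) hd) (by omega)
    · exact ⟨e, e'⟩
    · exact absurd rfl hne
  rw [hxb, hya] at hd
  obtain ⟨r, hr⟩ := hd
  obtain ⟨p, hp, hpr, hpu⟩ := S.exists_prime hns hr hya hxb hlt.le
  haveI := Fact.mk hp
  have hnd : ∀ t : ℕ, t.Prime → t ≠ p → ¬ t ∣ r := fun t ht htp h => htp (hpu t ht h)
  have hP : Parts G p := fun u v t hu hv ht htp => S.parts hr hu.nc hv.nc (hnd t ht htp)
  -- commuting good elements of different primes
  have hL1 : ∀ {l s : ℕ} {w v : G}, Prim l w → l ≠ p → s.Prime → s ≠ p → s ≠ l → IsPEl s v →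
      v ∈ cen w → cen w ≤ cen v := by
    intro l s w v hw hlp hs hsp hsl hv hvw
    rcases S.cases hw.nc with e | e
    · by_contra hn
      rcases S.single hr hw e hs hsl ⟨v, hvw, hv, hn⟩ with h | ⟨-, h⟩
      · exact hlp (h p hp hpr).symm
      · exact (h p hp hpr).elim (fun e => hlp e.symm) fun e => hsp e.symm
    · exact S.le_of_idx_b e hvw (hw.pel.coprime_orderOf hw.prime hs hsl.symm hv)
  have hother : ∀ u : G, Good p u → ∀ q : ℕ,
      ∃ (t : ℕ) (c : G), Prim t c ∧ t ≠ p ∧ t ≠ q ∧ c ∈ cen u := by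
    intro u hu q
    obtain ⟨t, e, he, htp, htq⟩ := exists_third hns p q
    haveI := Fact.mk he.prime
    obtain ⟨c, hc, hct, hcz⟩ := exists_noncentral_of_card (H := cen u) (center_le_cen e)
      (S.parts hr he.nc hu.nc (hnd t he.prime htp)).le (self_mem_cen e) he.pel he.nc
    exact ⟨t, c, ⟨he.prime, hct, hcz⟩, htp, htq, hc⟩
  have hdiff : ∀ {s t : ℕ} {u v : G}, Prim s u → s ≠ p → Prim t v → t ≠ p → s ≠ t → Commute u v →
      cen u = cen v := fun hu hsp hv htp hst h =>
    le_antisymm (hL1 hu hsp hv.prime htp hst.symm hv.pel (mem_cen.2 h.eq))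
      (hL1 hv htp hu.prime hsp hst hu.pel (mem_cen.2 h.symm.eq))
  have X : Rig G p := by
    refine ⟨?_, hother⟩
    rintro u v ⟨s, hu, hsp⟩ ⟨t, hv, htp⟩ huv
    by_cases hst : s = t
    · subst hst
      obtain ⟨t', w, hw, hwp, hws, hwu⟩ := hother u ⟨s, hu, hsp⟩ s
      have e1 := hdiff hu hsp hw hwp hws.symm (mem_cen.1 hwu)
      have hvw : v ∈ cen w := e1 ▸ mem_cen.2 huv.eq
      exact e1.trans (hdiff hw hwp hv htp hws (mem_cen.1 hvw))
    · exact hdiff hu hsp hv htp hst huv
  -- a `p`-element nearly central in a Sylow subgroup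
  obtain ⟨P⟩ : Nonempty (Sylow p G) := inferInstance
  have hPnc : ¬ (P : Subgroup G) ≤ Subgroup.center G :=
    (exists_dvd_iff P).1 ⟨x, by
      change p ∣ idx x
      rw [hxb, hr]; exact dvd_mul_of_dvd_right hpr a⟩
  obtain ⟨e, he, hez⟩ := SetLike.not_le_iff_exists.1 hPnc
  obtain ⟨y', hy', -, -, hcomm⟩ := exists_nearly P ⟨hp, isPEl_of_mem P.2 he, hez⟩
  obtain ⟨t, c₀, hc₀, htp, -⟩ := exists_third hns p p
  haveI := Fact.mk hc₀.prime
  obtain ⟨c, hcy, hct, hcz⟩ := exists_noncentral_of_card (H := cen y') (center_le_cen c₀)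
    (S.parts hr hc₀.nc hy'.nc (hnd t hc₀.prime htp)).le (self_mem_cen c₀) hc₀.pel hc₀.nc
  have hc : Good p c := ⟨t, ⟨hc₀.prime, hct, hcz⟩, htp⟩
  have hN := X.pindex_normalizer hP hc
  have hall : ∀ g : G, g * y' * g⁻¹ ∈ cen c := by
    intro g
    obtain ⟨π, hπ, n, hn, hπn⟩ := hN.exists_mul P g⁻¹
    have hg : g = n⁻¹ * π⁻¹ := by rw [← inv_inv g, ← hπn, mul_inv_rev]
    have h1 : π⁻¹ * y' * π ∈ cen c := by
      have h2 := hcomm π⁻¹ (inv_mem hπ)
      rw [inv_inv] at h2
      rw [show π⁻¹ * y' * π = π⁻¹ * y' * π * y'⁻¹ * y' by group]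
      exact mul_mem (center_le_cen c h2) (mem_cen_comm.1 hcy)
    rw [hg, show n⁻¹ * π⁻¹ * y' * (n⁻¹ * π⁻¹)⁻¹ = n⁻¹ * (π⁻¹ * y' * π) * n⁻¹⁻¹ by group]
    exact (Subgroup.mem_normalizer_iff.1 (inv_mem hn) _).1 h1
  have hgood : ∀ d : G, Good p d → d ∈ cen y' := by
    intro d hd
    obtain ⟨g, -, hg⟩ := X.conj_top hP hc hd
    rw [mem_cen_comm]
    change y' ∈ cen d
    rw [← hg, cen_conj_mem]
    simpa using hall g⁻¹
  -- the centraliser of that element is solvable
  set D := cen y'
  have hD : Group.IsSolvable D := by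
    refine solvable_of_pindex (p := p) (N := solRad D) solRad_isSolvable fun t' ht' ht'p => ?_
    haveI := Fact.mk ht'
    obtain ⟨T⟩ : Nonempty (Sylow t' D) := inferInstance
    refine not_dvd_of_sylow_le T fun d hd => ?_
    have hdp : IsPEl t' (d : G) :=
      (isPEl_of_mem T.2 hd).imp fun k hk => congrArg Subtype.val hk
    have hcop := hy'.pel.coprime_orderOf hp ht' ht'p.symm hdp
    obtain ⟨k, hk⟩ : ∃ k, (cen (d : G)).relIndex D = p ^ k := by
      have h0 : D ≤ cen (d : G) → ∃ k, (cen (d : G)).relIndex D = p ^ k := fun h =>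
        ⟨0, by rw [Subgroup.relIndex_eq_one.2 h, pow_zero]⟩
      rcases S.cases hy'.nc with e | e
      · rcases S.relIndex_cases hr e d.2 hcop with h | h
        · exact h0 h
        · exact h ▸ eq_pow_of_primes (p := p) (by rintro rfl; simp at hr; omega) hpu
      · exact h0 (S.le_of_idx_b e d.2 hcop)
    refine PrimePowerClass.Basic.mem_solRad hp d (a := k) ?_
    rw [cen_subgroupOf]
    exact hk
  refine hns (solvable_of_pindex (p := p) (N := D.normalCore) ?_ fun t' ht' ht'p => ?_)
  · haveI := hD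
    exact Group.isSolvable_of_isSolvable_injective
      (f := Subgroup.inclusion D.normalCore_le) (Subgroup.inclusion_injective _)
  · haveI := Fact.mk ht'
    obtain ⟨T⟩ : Nonempty (Sylow t' G) := inferInstance
    refine not_dvd_of_sylow_le T fun d hd g => ?_
    by_cases hdz : d ∈ Subgroup.center G
    · exact center_le_cen y' (center_normal_map (K := Subgroup.center G) hdz g hdz)
    · exact hgood _ (Good.conj (p := p) ⟨t', ⟨ht', isPEl_of_mem T.2 hd, hdz⟩, ht'p⟩ g)

end Cfsg.Agent.Lib.ThreeSizes21
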