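import Cfsg.Agent.Lib.ThreeSizes21.Basic
import Cfsg.Agent.Lib.TwoPRegular.Partition
import Cfsg.Agent.Lib.PrimePowerClass.Basic
import Cfsg.Agent.Lib.PrimePowerClass.Baer
import Cfsg.Agent.Lib.KegelWielandt.Main

/-!
# Three class sizes: tools

* `frobenius_norm` : fixed-point-free action of a Frobenius configuration on an abelian group;
* `solvable_of_prod` : a Sylow subgroup times an abelian subgroup, modulo the radical;
* `card_add_sum` : counting a covering by subgroups meeting pairwise in the centre.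
-/

set_option autoImplicit false

namespace Cfsg.Agent.Lib.ThreeSizes21

open Cfsg.Agent.Lib.ClassSizes.Basic Cfsg.Agent.Lib.ClassSizes.CopTools
open Cfsg.Agent.Lib.ClassSizesFour21
open Cfsg.Agent.Lib.PrimePowerClass.Radical (solRad solRad_isSolvable)

/-- If nontrivial elements of `U` fix only elements of `Z`, and a subgroup `B ≠ ⊥` normalises
`K ≠ ⊥` and acts on it fixed point freely, then `|K|`-th powers lie in `Z`. -/
theorem frobenius_norm {U A : Type*} [Group U] [CommGroup A] [Fintype U] (φ : U →* MulAut A)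
    (Z : Subgroup A) (hfix : ∀ u : U, u ≠ 1 → ∀ a : A, φ u a = a → a ∈ Z)
    (hZ : ∀ u : U, ∀ z ∈ Z, φ u z ∈ Z) (K B : Subgroup U) (hK : K ≠ ⊥) (hB : B ≠ ⊥)
    (hnorm : ∀ b ∈ B, ∀ k ∈ K, b * k * b⁻¹ ∈ K)
    (hfree : ∀ b ∈ B, b ≠ 1 → ∀ k ∈ K, b * k = k * b → k = 1) (a : A) :
    a ^ Nat.card K ∈ Z := by
  classical
  haveI := Fintype.ofFinite K
  haveI := Fintype.ofFinite B
  have hall : ∏ b : B, ∏ k : K, φ ((k : U) * b * (k : U)⁻¹) a ∈ Z := by
    rw [Finset.prod_comm]
    refine Z.prod_mem fun k _ => ?_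
    have h1 : ∏ b : B, φ ((k : U) * b * (k : U)⁻¹) a =
        φ (k : U) (∏ b : B, φ (b : U) (φ (k : U)⁻¹ a)) := by
      rw [map_prod]
      refine Finset.prod_congr rfl fun b _ => ?_
      rw [map_mul, map_mul, MulAut.mul_apply, MulAut.mul_apply]
    rw [h1]
    exact hZ _ _ (TwoPRegular.norm_mem φ Z hfix B hB _)
  have hrest : ∀ b : B, b ≠ 1 → ∏ k : K, φ ((k : U) * b * (k : U)⁻¹) a ∈ Z := by
    intro b hb
    have hb' : (b : U) ≠ 1 := fun h => hb (Subtype.ext h)
    let ψ : K → K := fun k => ⟨(k : U) * (b * (k : U)⁻¹ * (b : U)⁻¹),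
      mul_mem k.2 (hnorm b b.2 _ (inv_mem k.2))⟩
    have hψ : Function.Injective ψ := by
      intro k j h
      have h' : (k : U) * (b * (k : U)⁻¹ * (b : U)⁻¹) = (j : U) * (b * (j : U)⁻¹ * (b : U)⁻¹) :=
        congrArg Subtype.val h
      have h2 : (b : U) * ((j : U)⁻¹ * k) = ((j : U)⁻¹ * k) * b := by
        calc (b : U) * ((j : U)⁻¹ * k)
            = (j : U)⁻¹ * ((j : U) * (b * (j : U)⁻¹ * (b : U)⁻¹)) * b * k := by group
          _ = (j : U)⁻¹ * ((k : U) * (b * (k : U)⁻¹ * (b : U)⁻¹)) * b * k := by rw [h']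
          _ = _ := by group
      have h3 := hfree b b.2 hb' _ (mul_mem (inv_mem j.2) k.2) h2
      exact Subtype.ext (inv_mul_eq_one.1 h3).symm
    have h1 : ∏ k : K, φ ((k : U) * b * (k : U)⁻¹) a = ∏ k : K, φ (k : U) (φ (b : U) a) := by
      refine Fintype.prod_bijective ψ (Finite.injective_iff_bijective.1 hψ) _ _ fun k => ?_
      rw [← MulAut.mul_apply, ← map_mul]
      congr 2
      show (k : U) * b * (k : U)⁻¹ = (k : U) * (b * (k : U)⁻¹ * (b : U)⁻¹) * b
      group
    rw [h1]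
    exact TwoPRegular.norm_mem φ Z hfix K hK _
  rw [← Finset.mul_prod_erase _ _ (Finset.mem_univ (1 : B))] at hall
  have h0 := (Z.mul_mem_cancel_right
    (Z.prod_mem fun b hb => hrest b (Finset.ne_of_mem_erase hb))).1 hall
  simpa using h0

variable {G : Type*} [Group G]

/-- The index of `M` is prime to every prime other than `p`. -/
def PIndex (p : ℕ) (M : Subgroup G) : Prop := ∀ t : ℕ, t.Prime → t ≠ p → ¬ t ∣ M.index

variable [Finite G] {p : ℕ} [hp : Fact p.Prime]

omit [Finite G] in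
theorem eq_pow_of_primes {n : ℕ} (hn : n ≠ 0) (h : ∀ t : ℕ, t.Prime → t ∣ n → t = p) :
    ∃ k, n = p ^ k :=
  ⟨_, Nat.eq_prime_pow_of_unique_prime_dvd hn fun {d} hd hdn => h d hd hdn⟩

theorem PIndex.exists_mul {M : Subgroup G} (hM : PIndex p M) (P : Sylow p G) (g : G) :
    ∃ x ∈ (P : Subgroup G), ∃ m ∈ M, x * m = g := by
  refine PrimePowerClass.Baer.exists_mul_of_coprime_index M P ?_ g
  refine Nat.coprime_of_dvd fun t ht h1 h2 => ?_
  by_cases htp : t = p
  · exact P.not_dvd_index (htp ▸ h2)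
  · exact hM t ht htp h1

/-- An element moved by `M` only by central elements lies in the radical modulo the centre. -/
theorem mem_radical {M : Subgroup G} (hM : PIndex p M) {c : G}
    (hc : ∀ m ∈ M, m * c * m⁻¹ * c⁻¹ ∈ Subgroup.center G) :
    QuotientGroup.mk' (Subgroup.center G) c ∈ solRad (G ⧸ Subgroup.center G) := by
  set f := QuotientGroup.mk' (Subgroup.center G)
  have hle : M.map f ≤ Subgroup.centralizer ({f c} : Set (G ⧸ Subgroup.center G)) := by
    rintro _ ⟨m, hm, rfl⟩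
    rw [Subgroup.mem_centralizer_singleton_iff]
    have : f (m * c * m⁻¹ * c⁻¹) = 1 := (QuotientGroup.eq_one_iff _).2 (hc m hm)
    rw [map_mul, map_mul, map_mul, map_inv, map_inv, mul_inv_eq_one] at this
    exact mul_inv_eq_iff_eq_mul.1 this
  have hd : (Subgroup.centralizer ({f c} : Set (G ⧸ Subgroup.center G))).index ∣ M.index :=
    (Subgroup.index_dvd_of_le hle).trans
      (Subgroup.index_map_dvd M (QuotientGroup.mk'_surjective _))
  obtain ⟨k, hk⟩ := eq_pow_of_primes (p := p) Subgroup.index_ne_zero_of_finite fun t ht htd => by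
    by_contra htp
    exact hM t ht htp (htd.trans hd)
  exact PrimePowerClass.Basic.mem_solRad hp.out (f c) hk

/-- A subgroup of index a power of `p` inside an abelian subgroup times the radical. -/
theorem solvable_of_prod {M H : Subgroup G} (hM : PIndex p M) (hH : ∀ x ∈ H, ∀ y ∈ H, Commute x y)
    (hMH : ∀ m ∈ M, ∃ h ∈ H,
      QuotientGroup.mk' (Subgroup.center G) (h⁻¹ * m) ∈ solRad (G ⧸ Subgroup.center G)) :
    Group.IsSolvable G := by
  set Z := Subgroup.center G
  set R := solRad (G ⧸ Z)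
  let f : G →* (G ⧸ Z) ⧸ R := (QuotientGroup.mk' R).comp (QuotientGroup.mk' Z)
  obtain ⟨P⟩ : Nonempty (Sylow p G) := inferInstance
  have hA : Group.IsNilpotent ((P : Subgroup G).map f) := (P.2.map f).isNilpotent
  have hBc : ∀ x y : H.map f, x * y = y * x := by
    rintro ⟨_, x, hx, rfl⟩ ⟨_, y, hy, rfl⟩
    exact Subtype.ext ((hH x hx y hy).map f).eq
  have hB : Group.IsNilpotent (H.map f) := by
    letI : CommGroup (H.map f) := { (inferInstance : Group (H.map f)) with mul_comm := hBc }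
    infer_instance
  have hQR : Group.IsSolvable ((G ⧸ Z) ⧸ R) := KegelWielandt.isSolvable hA hB fun q => by
    obtain ⟨g', rfl⟩ := QuotientGroup.mk'_surjective R q
    obtain ⟨g, rfl⟩ := QuotientGroup.mk'_surjective Z g'
    obtain ⟨x, hx, m, hm, rfl⟩ := hM.exists_mul P g
    obtain ⟨h, hh, hr⟩ := hMH m hm
    refine ⟨f x, ⟨x, hx, rfl⟩, f h, ⟨h, hh, rfl⟩, ?_⟩
    have h1 : f (h⁻¹ * m) = 1 := (QuotientGroup.eq_one_iff _).2 hr
    rw [map_mul, map_inv, inv_mul_eq_one] at h1
    rw [h1]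
    exact map_mul f x m
  have hR : Group.IsSolvable R := solRad_isSolvable
  have hQ : Group.IsSolvable (G ⧸ Z) := by
    haveI := hR
    haveI := hQR
    exact Group.isSolvable_of_ker_le_range R.subtype (QuotientGroup.mk' R)
      (by rw [QuotientGroup.ker_mk', Subgroup.range_subtype])
  haveI : Group.IsSolvable Z :=
    Group.isSolvable_of_comm fun a b => Subtype.ext (Subgroup.mem_center_iff.1 b.2 a)
  exact Group.isSolvable_of_ker_le_range Z.subtype (QuotientGroup.mk' Z)
    (by rw [QuotientGroup.ker_mk', Subgroup.range_subtype])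

omit hp in
/-- Counting a covering of `L` by subgroups meeting pairwise in the centre. -/
theorem card_add_sum (L : Subgroup G) (F : Finset (Subgroup G))
    (hz : ∀ H ∈ F, Subgroup.center G ≤ H)
    (hcov : ∀ x ∈ L, x ∉ Subgroup.center G → ∃ H ∈ F, x ∈ H)
    (hdisj : ∀ H ∈ F, ∀ H' ∈ F, ∀ x ∈ L, x ∉ Subgroup.center G → x ∈ H → x ∈ H' → H = H') :
    Nat.card L + F.card * Nat.card (Subgroup.center G ⊓ L : Subgroup G) =
      Nat.card (Subgroup.center G ⊓ L : Subgroup G) + ∑ H ∈ F, Nat.card (H ⊓ L : Subgroup G) := by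
  classical
  haveI := Fintype.ofFinite G
  let s : Subgroup G → Finset G := fun H => Finset.univ.filter (· ∈ H)
  have hs : ∀ H : Subgroup G, Nat.card H = (s H).card := fun H => by
    rw [Nat.card_eq_fintype_card, Fintype.card_subtype]
  simp only [hs]
  set ZL := s (Subgroup.center G ⊓ L)
  let d : Subgroup G → Finset G := fun H => s (H ⊓ L) \ ZL
  have hsub : ∀ H ∈ F, ZL ⊆ s (H ⊓ L) := fun H hH x hx => by
    simp only [ZL, s, Finset.mem_filter, Subgroup.mem_inf] at hx ⊢
    exact ⟨hx.1, hz H hH hx.2.1, hx.2.2⟩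
  have h1 : ∀ H ∈ F, (s (H ⊓ L)).card = (d H).card + ZL.card := fun H hH =>
    (Finset.card_sdiff_add_card_eq_card (hsub H hH)).symm
  rw [Finset.sum_congr rfl h1, Finset.sum_add_distrib, Finset.sum_const, smul_eq_mul]
  have hpd : (F : Set (Subgroup G)).PairwiseDisjoint d := by
    intro H hH H' hH' hne
    rw [Function.onFun, Finset.disjoint_left]
    intro x hx hx'
    simp only [d, ZL, s, Finset.mem_sdiff, Finset.mem_filter, Finset.mem_univ, true_and,
      Subgroup.mem_inf] at hx hx'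
    exact hne (hdisj H hH H' hH' x hx.1.2 (fun h => hx.2 ⟨h, hx.1.2⟩) hx.1.1 hx'.1.1)
  have h2 : s L = ZL ∪ F.biUnion d := by
    ext x
    simp only [d, ZL, s, Finset.mem_union, Finset.mem_biUnion, Finset.mem_sdiff,
      Finset.mem_filter, Finset.mem_univ, true_and, Subgroup.mem_inf]
    constructor
    · intro hx
      by_cases hxz : x ∈ Subgroup.center G
      · exact Or.inl ⟨hxz, hx⟩
      · obtain ⟨H, hH, hxH⟩ := hcov x hx hxz
        exact Or.inr ⟨H, hH, ⟨hxH, hx⟩, fun h => hxz h.1⟩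
    · rintro (⟨-, hx⟩ | ⟨H, -, ⟨-, hx⟩, -⟩) <;> exact hx
  have h3 : Disjoint ZL (F.biUnion d) := by
    rw [Finset.disjoint_biUnion_right]
    exact fun H _ => Finset.disjoint_sdiff
  rw [h2, Finset.card_union_of_disjoint h3, Finset.card_biUnion hpd]
  ring

end Cfsg.Agent.Lib.ThreeSizes21
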