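import Cfsg.Agent.Lib.ThreeSizes21.Abstract
import Cfsg.Agent.Lib.ThreeSizes21.Tools

/-!
# Rigid centralisers of one order

If the orders of all centralisers of good elements have equal parts at every prime `≠ p`, they form
one conjugacy class and the normaliser of each has index a power of `p`.
-/

set_option autoImplicit false

namespace Cfsg.Agent.Lib.ThreeSizes21

open Cfsg.Agent.Lib.ClassSizes.Basic Cfsg.Agent.Lib.ClassSizes.CopTools
open Cfsg.Agent.Lib.ClassSizesFour21
open scoped Pointwise

variable {G : Type*} [Group G] {p : ℕ}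

/-- The orders of the centralisers of good elements have the same `t`-part for `t ≠ p`. -/
def Parts (G : Type*) [Group G] (p : ℕ) : Prop :=
  ∀ (u v : G) (t : ℕ), Good p u → Good p v → t.Prime → t ≠ p →
    (Nat.card (cen u)).factorization t = (Nat.card (cen v)).factorization t

variable [Finite G]

theorem Rig.conj_top (X : Rig G p) (hP : Parts G p) {v w : G} (hv : Good p v) (hw : Good p w) :
    ConjIn ⊤ v w := by
  obtain ⟨s, c, hc, hsp, -, hcv⟩ := X.other v hv 0
  obtain ⟨t, d, hd, htp, hts, hdv⟩ := X.other v hv s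
  haveI := Fact.mk hc.prime
  haveI := Fact.mk hd.prime
  have hws : ∀ {r : ℕ} [Fact r.Prime] {e : G}, r ≠ p → e ∈ cen v → Prim r e →
      ∃ e' ∈ cen w, Prim r e' := by
    intro r _ e hrp hev he
    obtain ⟨e', he', hep, hez⟩ := exists_noncentral_of_card (H := cen w) (center_le_cen v)
      (hP v w r hv hw he.prime hrp).le hev he.pel he.nc
    exact ⟨e', he', he.prime, hep, hez⟩
  exact X.conjIn hsp htp hts.symm (fun _ _ => Subgroup.mem_top _) (fun _ _ => Subgroup.mem_top _)
    hv hw ⟨c, hcv, hc⟩ (hws hsp hcv hc) ⟨d, hdv, hd⟩ (hws htp hdv hd)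
    (hP v w s hv hw hc.prime hsp) (hP v w t hv hw hd.prime htp)

theorem Rig.pindex_normalizer (X : Rig G p) (hP : Parts G p) {c : G} (hc : Good p c) :
    PIndex p (Subgroup.normalizer (cen c : Set G)) := by
  intro t ht htp
  haveI := Fact.mk ht
  obtain ⟨T⟩ : Nonempty (Sylow t G) := inferInstance
  by_cases hT : (T : Subgroup G) ≤ Subgroup.center G
  · exact not_dvd_of_sylow_le T
      ((hT.trans (center_le_cen c)).trans Subgroup.le_normalizer)
  obtain ⟨e, he, hez⟩ := SetLike.not_le_iff_exists.1 hT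
  obtain ⟨u, hu, -, -, hTu⟩ :=
    Rig.exists_normalized htp T (x := e) ⟨ht, isPEl_of_mem T.2 he, hez⟩
  obtain ⟨g, -, hg⟩ := X.conj_top hP hu hc
  refine fun hd => T.not_dvd_index (hd.trans ?_)
  have h1 : ((T : Subgroup G).map (MulAut.conj g).toMonoidHom).index = (T : Subgroup G).index :=
    Subgroup.index_map_of_bijective (MulAut.conj g).bijective _
  rw [← h1]
  refine Subgroup.index_dvd_of_le ?_
  rintro _ ⟨h, hh, rfl⟩
  rw [mem_normalizer_cen]
  have h' := cen_conj_congr (mem_normalizer_cen.1 (hTu hh)) g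
  rw [hg] at h'
  rw [← h']
  conv_lhs => rw [← cen_conj_congr hg]
  congr 1
  simp only [MulEquiv.coe_toMonoidHom, MulAut.conj_apply]
  group

end Cfsg.Agent.Lib.ThreeSizes21
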