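import Cfsg.Agent.Lib.ThreeSizes21.Flat

/-!
# The automizer of an abelian rigid centraliser with an outer `s`-element
-/

set_option autoImplicit false

namespace Cfsg.Agent.Lib.ThreeSizes21

open Cfsg.Agent.Lib.ClassSizes.Basic Cfsg.Agent.Lib.ClassSizes.CopTools
open Cfsg.Agent.Lib.ClassSizesFour21

variable {G : Type*} [Group G]

theorem commute_of_pow_comm {n u z : G} (h : n * u * n⁻¹ = u * z) (hz : z ∈ Subgroup.center G)
    {m l : ℕ} (hm : Commute (n ^ m) u) (hl : u ^ l = 1) (hcop : m.Coprime l) : Commute n u := by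
  have hcz : ∀ g : G, Commute g z := fun g => Subgroup.mem_center_iff.1 hz g
  have key : ∀ k : ℕ, n ^ k * u * (n ^ k)⁻¹ = u * z ^ k := by
    intro k
    induction k with
    | zero => simp
    | succ k ih =>
      calc n ^ (k + 1) * u * (n ^ (k + 1))⁻¹ = n * (n ^ k * u * (n ^ k)⁻¹) * n⁻¹ := by
            rw [pow_succ']; group
        _ = n * (u * z ^ k) * n⁻¹ := by rw [ih]
        _ = (n * u * n⁻¹) * (n * z ^ k * n⁻¹) := by group
        _ = u * z * z ^ k := by rw [h, ((hcz n).pow_right k).eq, mul_inv_cancel_right]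
        _ = u * z ^ (k + 1) := by rw [mul_assoc, pow_succ']
  have h1 : z ^ m = 1 := by
    have := key m
    rw [hm.eq, mul_inv_cancel_right] at this
    simpa using this
  have h2 : z ^ l = 1 := by
    have h3 : (n * u * n⁻¹) ^ l = 1 := by rw [conj_pow, hl, mul_one, mul_inv_cancel]
    rwa [h, (hcz u).mul_pow, hl, one_mul] at h3
  have h3 : z = 1 := orderOf_eq_one_iff.1 (Nat.eq_one_of_dvd_coprimes hcop
    (orderOf_dvd_of_pow_eq_one h1) (orderOf_dvd_of_pow_eq_one h2))
  rw [h3, mul_one] at h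
  exact mul_inv_eq_iff_eq_mul.1 h

variable [Finite G]

/-- An abelian self-centralising `H = C(u)`, every noncentral element of which has centraliser
inside `H`, with an outer `s`-element `g` moving `u` centrally and `s`-part of the automizer at
most `s`: the normaliser is `H⟨g⟩`. -/
theorem normalizer_gen {s : ℕ} [hs : Fact s.Prime] {u g : G} (hup : IsPEl s u)
    (huz : u ∉ Subgroup.center G)
    (hab : ∀ x ∈ cen u, ∀ y ∈ cen u, Commute x y)
    (hsemi : ∀ w ∈ cen u, w ∉ Subgroup.center G → cen w ≤ cen u)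
    (hother : ∃ (t : ℕ) (c : G), Prim t c ∧ t ≠ s ∧ c ∈ cen u)
    (hgs : g ^ s ∈ cen u) (hg : g ∉ cen u) (hζ : g * u * g⁻¹ * u⁻¹ ∈ Subgroup.center G)
    (hfact : (Nat.card G).factorization s ≤ (Nat.card (cen u)).factorization s + 1) :
    ∀ n ∈ Subgroup.normalizer (cen u : Set G), ∃ h ∈ cen u, ∃ i : ℤ, n = h * g ^ i := by
  classical
  set H := cen u
  set N := Subgroup.normalizer (H : Set G)
  let HN : Subgroup N := H.subgroupOf N
  haveI : HN.Normal := Subgroup.normal_in_normalizer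
  letI : CommGroup H := { (inferInstance : Group H) with
    mul_comm := fun x y => Subtype.ext (hab x x.2 y y.2).eq }
  let φ : N ⧸ HN →* MulAut H := QuotientGroup.lift HN H.normalizerMonoidHom (by
    rw [Subgroup.normalizerMonoidHom_ker]
    intro n hn
    exact Subgroup.mem_centralizer_iff.2 fun x hx => (hab x hx (n : G) hn).eq)
  let Z : Subgroup H := (Subgroup.center G).subgroupOf H
  have hφ : ∀ (n : N) (x : H), ((φ (n : N ⧸ HN) x : H) : G) = n * x * (n : G)⁻¹ := fun n x =>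
    H.normalizerMonoidHom_apply_apply_coe n x
  have hmk : ∀ n : N, (n : N ⧸ HN) = 1 ↔ (n : G) ∈ H := fun n =>
    (QuotientGroup.eq_one_iff n).trans Subgroup.mem_subgroupOf
  haveI := Fintype.ofFinite (N ⧸ HN)
  have hfix : ∀ w : N ⧸ HN, w ≠ 1 → ∀ x : H, φ w x = x → x ∈ Z := by
    intro w hw x hx
    obtain ⟨n, rfl⟩ := QuotientGroup.mk_surjective w
    by_contra hxz
    refine hw ((hmk n).2 (hsemi x x.2 (fun h => hxz (Subgroup.mem_subgroupOf.2 h)) ?_))
    rw [mem_cen]
    have h1 : (n : G) * x * (n : G)⁻¹ = x := by rw [← hφ]; exact congrArg Subtype.val hx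
    exact (mul_inv_eq_iff_eq_mul.1 h1).symm
  have hZ : ∀ w : N ⧸ HN, ∀ z ∈ Z, φ w z ∈ Z := by
    intro w z hz
    obtain ⟨n, rfl⟩ := QuotientGroup.mk_surjective w
    rw [Subgroup.mem_subgroupOf, hφ, Subgroup.mem_center_iff.1 (Subgroup.mem_subgroupOf.1 hz) (n : G),
      mul_inv_cancel_right]
    exact hz
  have hgN : g ∈ N := mem_normalizer_of_comm hζ
  set γ : N ⧸ HN := ((⟨g, hgN⟩ : N) : N ⧸ HN) with hγ
  have hγ1 : γ ≠ 1 := fun h => hg ((hmk ⟨g, hgN⟩).1 h)
  have hγs : γ ^ s = 1 := by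
    rw [hγ, ← QuotientGroup.mk_pow]
    exact (hmk _).2 hgs
  have hγo : orderOf γ = s := orderOf_eq_prime hγs hγ1
  set A := Subgroup.zpowers γ with hA
  have hAc : Nat.card A = s := (Nat.card_zpowers γ).trans hγo
  have hAp : IsPGroup s A := IsPGroup.of_card (n := 1) (by rw [hAc, pow_one])
  have hWs : (Nat.card (N ⧸ HN)).factorization s ≤ 1 := by
    have h1 := Subgroup.card_mul_index HN
    rw [Nat.card_congr (Subgroup.subgroupOfEquivOfLe (Subgroup.le_normalizer : H ≤ N)).toEquiv,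
      Subgroup.index] at h1
    have h2 := (Nat.factorization_le_iff_dvd Nat.card_pos.ne' Nat.card_pos.ne').2
      (Subgroup.card_subgroup_dvd_card N) s
    rw [← h1, Nat.factorization_mul Nat.card_pos.ne' Nat.card_pos.ne', Finsupp.add_apply] at h2
    omega
  -- `s`-subgroups containing `A` equal `A`
  have hAmax : ∀ B : Subgroup (N ⧸ HN), IsPGroup s B → A ≤ B → A = B := by
    intro B hB hAB
    refine Subgroup.eq_of_le_of_card_ge hAB ?_
    rw [hAc]
    calc Nat.card B ≤ s ^ (Nat.card (N ⧸ HN)).factorization s := by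
          obtain ⟨j, hj⟩ := hB.exists_card_eq
          rw [hj]
          exact Nat.pow_le_pow_right hs.out.pos ((Nat.Prime.pow_dvd_iff_le_factorization hs.out
            Nat.card_pos.ne').1 (hj ▸ Subgroup.card_subgroup_dvd_card B))
      _ ≤ s ^ 1 := Nat.pow_le_pow_right hs.out.pos hWs
      _ = s := pow_one s
  have hs_in : ∀ y : N ⧸ HN, IsPEl s y → y ∈ Subgroup.normalizer (A : Set (N ⧸ HN)) → y ∈ A := by
    intro y hy hyA
    have hp : IsPGroup s (Subgroup.zpowers y ⊔ A : Subgroup (N ⧸ HN)) :=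
      (hy.isPGroup hs.out).to_sup_of_normal_right' hAp (Subgroup.zpowers_le.2 hyA)
    rw [hAmax _ hp le_sup_right]
    exact Subgroup.mem_sup_left (Subgroup.mem_zpowers y)
  -- elements of other prime power order do not centralise `γ`
  have hpair : ∀ (r : ℕ) (y : N ⧸ HN), r.Prime → r ≠ s → IsPEl r y → Commute y γ → y = 1 := by
    intro r y hr hrs hy hyγ
    obtain ⟨n, rfl⟩ := QuotientGroup.mk_surjective y
    obtain ⟨k, hk⟩ := hy
    obtain ⟨l, hl⟩ := hup
    rw [← QuotientGroup.mk_pow] at hk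
    have hnk : ((n : G) ^ r ^ k) ∈ H := (hmk _).1 hk
    have hc : ((n * ⟨g, hgN⟩ : N) : N ⧸ HN) = ((⟨g, hgN⟩ * n : N) : N ⧸ HN) := hyγ.eq
    have hh : ((⟨g, hgN⟩ * n)⁻¹ * (n * ⟨g, hgN⟩) : N).1 ∈ H :=
      Subgroup.mem_subgroupOf.1 (QuotientGroup.eq.1 hc.symm)
    simp only [Subgroup.coe_mul, Subgroup.coe_inv] at hh
    refine (hmk n).2 ?_
    set m : G := (n : G) * u * (n : G)⁻¹ with hm
    have hmH : m ∈ H := (Subgroup.mem_normalizer_iff.1 n.2 u).1 (self_mem_cen u)
    set ζ := g * u * g⁻¹ * u⁻¹ with hζdef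
    have hgu : g * u * g⁻¹ = ζ * u := by rw [hζdef]; group
    set h := (g * (n : G))⁻¹ * ((n : G) * g) with hhdef
    have hgm : g * m * g⁻¹ = ζ * m := by
      have hhu : h⁻¹ * u * h = u := by
        rw [mul_assoc, mem_cen.1 hh, inv_mul_cancel_left]
      calc g * m * g⁻¹ = ((n : G) * g * h⁻¹) * u * ((n : G) * g * h⁻¹)⁻¹ := by
            rw [hm, hhdef]; group
        _ = (n : G) * (g * (h⁻¹ * u * h) * g⁻¹) * (n : G)⁻¹ := by group
        _ = (n : G) * ζ * u * (n : G)⁻¹ := by rw [hhu, hgu]; group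
        _ = ζ * (n : G) * u * (n : G)⁻¹ := by rw [Subgroup.mem_center_iff.1 hζ (n : G)]
        _ = ζ * m := by rw [hm]; group
    have hd : u⁻¹ * m ∈ Subgroup.center G := by
      by_contra hdz
      refine hg (hsemi _ (mul_mem (inv_mem (self_mem_cen u)) hmH) hdz ?_)
      rw [mem_cen]
      have h1 : g * (u⁻¹ * m) * g⁻¹ = u⁻¹ * m := by
        calc g * (u⁻¹ * m) * g⁻¹ = (g * u * g⁻¹)⁻¹ * (g * m * g⁻¹) := by group
          _ = (ζ * u)⁻¹ * (ζ * m) := by rw [hgu, hgm]
          _ = u⁻¹ * m := by group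
      exact (mul_inv_eq_iff_eq_mul.1 h1).symm
    exact mem_cen.2 (commute_of_pow_comm (z := u⁻¹ * m) (by rw [hm]; group) hd
      (m := r ^ k) (l := s ^ l) (mem_cen.1 hnk).symm hl
      (((Nat.coprime_primes hr hs.out).2 hrs).pow k l)).symm.eq
  have hcent : ∀ y : N ⧸ HN, Commute y γ → y ∈ A := by
    intro y hy
    refine pel_of_primes fun r hr e he hre => ?_
    have hec : Commute e γ := by
      obtain ⟨i, rfl⟩ := he
      exact hy.zpow_left i
    by_cases hrs : r = s
    · subst hrs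
      refine hs_in e hre (Subgroup.centralizer_le_normalizer _ ?_)
      refine Subgroup.mem_centralizer_iff.2 ?_
      rintro _ ⟨i, rfl⟩
      exact (hec.zpow_right i).eq.symm
    · rw [hpair r e hr hrs hre hec]
      exact one_mem _
  -- `A` is its own normaliser
  have hnorm : Subgroup.normalizer (A : Set (N ⧸ HN)) ≤ A := by
    intro y hy
    refine pel_of_primes fun r hr e he hre => ?_
    have heA := mem_of_mem_zpowers he hy
    by_cases hrs : r = s
    · subst hrs
      exact hs_in e hre heA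
    by_contra hne
    have hB : Subgroup.zpowers e ≠ ⊥ := fun h => hne (by
      rw [Subgroup.zpowers_eq_bot] at h
      rw [h]; exact one_mem _)
    have hfree : ∀ b ∈ Subgroup.zpowers e, b ≠ 1 → ∀ k ∈ A, b * k = k * b → k = 1 := by
      intro b hb hb1 k hk hbk
      by_contra hk1
      have hgen : γ ∈ Subgroup.zpowers k := by
        haveI : Fact (orderOf γ).Prime := ⟨hγo.symm ▸ hs.out⟩
        obtain ⟨i, rfl⟩ := hk
        have hle : Subgroup.zpowers (γ ^ i) ≤ A := Subgroup.zpowers_le.2 ⟨i, rfl⟩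
        have hdvd := Subgroup.card_dvd_of_le hle
        rw [hAc, Nat.card_zpowers] at hdvd
        rcases (Nat.dvd_prime hs.out).1 hdvd with h | h
        · exact absurd (orderOf_eq_one_iff.1 h) hk1
        · rw [Subgroup.eq_of_le_of_card_ge hle (by rw [hAc, Nat.card_zpowers, h])]
          exact Subgroup.mem_zpowers γ
      have hbγ : Commute b γ := by
        obtain ⟨j, hj⟩ := hgen
        exact hj ▸ (show Commute b k from hbk).zpow_right j
      obtain ⟨i, rfl⟩ := hb
      exact hb1 (hpair r _ hr hrs (hre.pow i) hbγ)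
    obtain ⟨t, c, hc, hts, hcu⟩ := hother
    have h1 := frobenius_norm φ Z hfix hZ A (Subgroup.zpowers e)
      (fun h => hγ1 (Subgroup.zpowers_eq_bot.1 h)) hB
      (fun b hb k hk => (Subgroup.mem_normalizer_iff.1 (mem_of_mem_zpowers hb heA) k).1 hk) hfree
      ⟨c, hcu⟩
    rw [hAc, Subgroup.mem_subgroupOf, Subgroup.coe_pow] at h1
    obtain ⟨j, hj⟩ := exists_pow_eq_self_of_coprime
      (hc.pel.coprime hc.prime ((Nat.coprime_primes hc.prime hs.out).2 hts)).symm
    exact hc.nc (hj ▸ Subgroup.pow_mem _ h1 j)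
  have hAS : Nat.card A = s ^ (Nat.card (N ⧸ HN)).factorization s := by
    rw [hAc]
    have h1 : 1 ≤ (Nat.card (N ⧸ HN)).factorization s :=
      hs.out.factorization_pos_of_dvd Nat.card_pos.ne' (hAc ▸ Subgroup.card_subgroup_dvd_card A)
    rw [show (Nat.card (N ⧸ HN)).factorization s = 1 by omega, pow_one]
  obtain ⟨-, K, hKn, hKA, -, hKs⟩ := exists_abelian_complement (Sylow.ofCard A hAS) (by
    refine fun y hy => Subgroup.mem_centralizer_iff.2 fun k hk => ?_
    obtain ⟨i, rfl⟩ := hnorm hy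
    obtain ⟨j, rfl⟩ := hk
    exact zpow_mul_comm γ j i)
  have hKbot : K = ⊥ := by
    by_contra hK
    have h1 := frobenius_norm φ Z hfix hZ K A hK
      (fun h => hγ1 (Subgroup.zpowers_eq_bot.1 h)) (fun b _ k hk => hKn.conj_mem k hk b)
      (fun b hb hb1 k hk hbk => by
        have hkA : k ∈ A := by
          refine hcent k ?_
          have hle : Subgroup.zpowers b ≤ A := Subgroup.zpowers_le.2 hb
          have hdvd := Subgroup.card_dvd_of_le hle
          rw [hAc, Nat.card_zpowers] at hdvd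
          rcases (Nat.dvd_prime hs.out).1 hdvd with h | h
          · exact absurd (orderOf_eq_one_iff.1 h) hb1
          · obtain ⟨j, hj⟩ : γ ∈ Subgroup.zpowers b := by
              rw [Subgroup.eq_of_le_of_card_ge hle (by rw [hAc, Nat.card_zpowers, h])]
              exact Subgroup.mem_zpowers γ
            exact hj ▸ (show Commute k b from hbk.symm).zpow_right j
        exact Subgroup.mem_bot.1 (hKA.disjoint.le_bot ⟨hk, hkA⟩))
      ⟨u, self_mem_cen u⟩
    rw [Subgroup.mem_subgroupOf, Subgroup.coe_pow] at h1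
    obtain ⟨j, hj⟩ := exists_pow_eq_self_of_coprime
      (hup.coprime hs.out (hs.out.coprime_iff_not_dvd.2 hKs)).symm
    exact huz (hj ▸ Subgroup.pow_mem _ h1 j)
  rw [hKbot] at hKA
  have hAtop : A = ⊤ := Subgroup.isComplement'_bot_left.1 hKA
  intro n hn
  obtain ⟨i, hi⟩ : ((⟨n, hn⟩ : N) : N ⧸ HN) ∈ A := hAtop ▸ Subgroup.mem_top _
  refine ⟨n * (g ^ i)⁻¹, ?_, i, by group⟩
  have h1 : ((⟨n, hn⟩ * (⟨g, hgN⟩ ^ i)⁻¹ : N) : N ⧸ HN) = 1 := by
    rw [QuotientGroup.mk_mul, QuotientGroup.mk_inv, QuotientGroup.mk_zpow, ← hγ]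
    rw [show γ ^ i = ((⟨n, hn⟩ : N) : N ⧸ HN) from hi, mul_inv_cancel]
  have h2 := (hmk _).1 h1
  simpa using h2

end Cfsg.Agent.Lib.ThreeSizes21
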